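import Cfsg.Agent.Helper9.HH3.Four2

/-!
# Four-groups and the cubic element: the main structure lemma
-/

set_option autoImplicit false

namespace Cfsg.Agent.Helper9.HH3

variable {S : Type*} [Group S] {E : Type*} [AddCommGroup E] [Module (ZMod 3) E]
variable {ρ : Representation (ZMod 3) S E}

namespace FourCfg

variable {b z₁ z₂ z₃ : S} (hf : FourCfg b z₁ z₂ z₃) {v₀ : E} (h : Cub ρ b v₀)
include hf h

/-- Some weight line is nonzero (faithfulness). -/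
theorem exists_w1 : ∃ w : E, w ≠ 0 ∧ w ∈ W1 ρ z₁ z₂ := by
  by_contra hcon
  push Not at hcon
  have h1 : ∀ w, w ∈ W1 ρ z₁ z₂ → w = 0 := fun w hw => by
    by_contra hw0
    exact hcon w hw0 hw
  have h3 : ∀ w, w ∈ W1 ρ z₃ z₁ → w = 0 := by
    intro w hw
    have : ρ b w = 0 := h1 _ (hf.shift.shift.isW1_b hw)
    have := congrArg (ρ b⁻¹) this
    rwa [rho_inv_apply, map_zero] at this
  have h2 : ∀ w, w ∈ W1 ρ z₂ z₃ → w = 0 := by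
    intro w hw
    have : ρ b w = 0 := h3 _ (hf.shift.isW1_b hw)
    have := congrArg (ρ b⁻¹) this
    rwa [rho_inv_apply, map_zero] at this
  apply hf.ne
  apply h.faith
  rw [map_one]
  ext v
  have hd := decomp (ρ := ρ) (z₁ := z₁) (z₂ := z₂) (z₃ := z₃) v
  rw [h1 _ (hf.isW1_proj v), h2 _ (hf.shift.isW1_proj v), h3 _ (hf.shift.shift.isW1_proj v),
    add_zero, add_zero, add_zero] at hd
  have h0 : IsW0 ρ z₁ z₂ v := by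
    rw [hd]
    exact hf.isW0_proj v
  rw [h0.1]
  rfl

/-- The weight line is one-dimensional. -/
theorem w1_span {w : E} (hw0 : w ≠ 0) (hw : w ∈ W1 ρ z₁ z₂) {x : E} (hx : x ∈ W1 ρ z₁ z₂) :
    ∃ α : ZMod 3, x = α • w := by
  obtain ⟨c, hc⟩ := h.sq_rng w
  obtain ⟨c', hc'⟩ := h.sq_rng x
  have hy : c' • w - c • x ∈ W1 ρ z₁ z₂ :=
    Submodule.sub_mem _ (Submodule.smul_mem _ _ hw) (Submodule.smul_mem _ _ hx)
  have hy0 : nb ρ b (nb ρ b (c' • w - c • x)) = 0 := by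
    rw [map_sub, map_sub, map_smul, map_smul, map_smul, map_smul, hc, hc', smul_smul, smul_smul,
      mul_comm, sub_self]
  have hy1 := hf.eq_zero_of_nbsq hy hy0
  have hc0 : c ≠ 0 := by
    intro h0
    rw [h0, zero_smul] at hc
    exact hw0 (hf.eq_zero_of_nbsq hw hc)
  refine ⟨c⁻¹ * c', ?_⟩
  have h2 : c • x = c' • w := (sub_eq_zero.1 hy1).symm
  calc x = c⁻¹ • (c • x) := by rw [smul_smul, inv_mul_cancel₀ hc0, one_smul]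
    _ = (c⁻¹ * c') • w := by rw [h2, smul_smul]

/-- The sum of the three weight lines. -/
def U (_hf : FourCfg b z₁ z₂ z₃) (ρ : Representation (ZMod 3) S E) : Submodule (ZMod 3) E :=
  W1 ρ z₁ z₂ ⊔ W1 ρ z₂ z₃ ⊔ W1 ρ z₃ z₁

omit h in
theorem W1_le_U : W1 ρ z₁ z₂ ≤ hf.U ρ := le_sup_of_le_left le_sup_left

omit h in
theorem W1'_le_U : W1 ρ z₂ z₃ ≤ hf.U ρ := le_sup_of_le_left le_sup_right

omit h in
theorem W1''_le_U : W1 ρ z₃ z₁ ≤ hf.U ρ := le_sup_right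

omit h in
theorem mem_U_iff {x : E} : x ∈ hf.U ρ ↔
    ∃ u₁ ∈ W1 ρ z₁ z₂, ∃ u₂ ∈ W1 ρ z₂ z₃, ∃ u₃ ∈ W1 ρ z₃ z₁, x = u₁ + u₂ + u₃ := by
  unfold U
  constructor
  · intro hx
    obtain ⟨y, hy, u₃, hu₃, rfl⟩ := Submodule.mem_sup.1 hx
    obtain ⟨u₁, hu₁, u₂, hu₂, rfl⟩ := Submodule.mem_sup.1 hy
    exact ⟨u₁, hu₁, u₂, hu₂, u₃, hu₃, rfl⟩
  · rintro ⟨u₁, hu₁, u₂, hu₂, u₃, hu₃, rfl⟩
    exact Submodule.add_mem _ (Submodule.add_mem _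
      (Submodule.mem_sup_left (Submodule.mem_sup_left hu₁))
      (Submodule.mem_sup_left (Submodule.mem_sup_right hu₂))) (Submodule.mem_sup_right hu₃)

omit h in
/-- `E = C_E(Q) ⊕ U`. -/
theorem isCompl_W0_U : IsCompl (W0 ρ z₁ z₂) (hf.U ρ) := by
  constructor
  · rw [Submodule.disjoint_def]
    intro x hx0 hxU
    obtain ⟨u₁, hu₁, u₂, hu₂, u₃, hu₃, rfl⟩ := hf.mem_U_iff.1 hxU
    -- apply the projection `e₀`
    have e0 : ∀ y : E, y ∈ W0 ρ z₁ z₂ → y + ρ z₁ y + ρ z₂ y + ρ z₃ y = y := by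
      intro y hy
      rw [hy.1, hy.2, hf.isW0_z3 hy]
      exact four_smul_eq y
    have e1 : u₁ + ρ z₁ u₁ + ρ z₂ u₁ + ρ z₃ u₁ = 0 := by
      rw [hu₁.1, hu₁.2, hf.isW1_z3 hu₁]; abel
    have e2 : u₂ + ρ z₁ u₂ + ρ z₂ u₂ + ρ z₃ u₂ = 0 := by
      rw [hu₂.1, hu₂.2, hf.shift.isW1_z3 hu₂]; abel
    have e3 : u₃ + ρ z₁ u₃ + ρ z₂ u₃ + ρ z₃ u₃ = 0 := by
      rw [hu₃.1, hu₃.2, hf.shift.shift.isW1_z3 hu₃]; abel
    have := e0 _ hx0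
    rw [← this]
    simp only [map_add]
    have e : u₁ + u₂ + u₃ + (ρ z₁ u₁ + ρ z₁ u₂ + ρ z₁ u₃) + (ρ z₂ u₁ + ρ z₂ u₂ + ρ z₂ u₃) +
        (ρ z₃ u₁ + ρ z₃ u₂ + ρ z₃ u₃) = (u₁ + ρ z₁ u₁ + ρ z₂ u₁ + ρ z₃ u₁) +
        (u₂ + ρ z₁ u₂ + ρ z₂ u₂ + ρ z₃ u₂) + (u₃ + ρ z₁ u₃ + ρ z₂ u₃ + ρ z₃ u₃) := by abel
    rw [e, e1, e2, e3, add_zero, add_zero]
  · rw [codisjoint_iff, eq_top_iff]
    intro v _
    have hd := decomp (ρ := ρ) (z₁ := z₁) (z₂ := z₂) (z₃ := z₃) v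
    rw [hd, add_assoc, add_assoc]
    apply Submodule.add_mem
    · exact Submodule.mem_sup_left (hf.isW0_proj v)
    · apply Submodule.mem_sup_right
      rw [← add_assoc]
      exact hf.mem_U_iff.2 ⟨_, hf.isW1_proj v, _, hf.shift.isW1_proj v, _,
        hf.shift.shift.isW1_proj v, rfl⟩

omit h in
theorem b_W0 {x : E} (hx : x ∈ W0 ρ z₁ z₂) : ρ b x ∈ W0 ρ z₁ z₂ := by
  rw [← hf.W0_shift]
  exact hf.isW0_b hx

omit h in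
theorem b_U {x : E} (hx : x ∈ hf.U ρ) : ρ b x ∈ hf.U ρ := by
  obtain ⟨u₁, hu₁, u₂, hu₂, u₃, hu₃, rfl⟩ := hf.mem_U_iff.1 hx
  simp only [map_add]
  have e : ρ b u₁ + ρ b u₂ + ρ b u₃ = ρ b u₃ + ρ b u₁ + ρ b u₂ := by abel
  rw [e]
  exact hf.mem_U_iff.2 ⟨_, hf.shift.shift.isW1_b hu₃, _, hf.isW1_b hu₁, _, hf.shift.isW1_b hu₂, rfl⟩

/-- `b` is trivial on `C_E(Q)`. -/
theorem b_triv_W0 : ∀ x ∈ W0 ρ z₁ z₂, ρ b x = x := by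
  rcases h.triv_or_triv hf.isCompl_W0_U (fun v hv => hf.b_W0 hv) (fun v hv => hf.b_U hv) with h1 | h1
  · exact h1
  · exfalso
    obtain ⟨w, hw0, hw⟩ := hf.exists_w1 h
    have h2 := h1 w (hf.W1_le_U hw)
    have h3 : ρ b w ∈ W1 ρ z₂ z₃ := hf.isW1_b hw
    rw [h2] at h3
    exact hw0 (W1_inf_shift hw h3)

/-- `(b - 1) E ≤ U`. -/
theorem nb_mem_U (x : E) : nb ρ b x ∈ hf.U ρ :=
  Cub.nb_mem_of_triv hf.isCompl_W0_U (fun _ hv => hf.b_U hv) (hf.b_triv_W0 h) x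

omit h in
/-- If `(b - 1)²` vanishes on an invariant submodule, then the four-group acts trivially on it. -/
theorem triv_of_quadratic {N₀ : Submodule (ZMod 3) E} (hz1 : ∀ v ∈ N₀, ρ z₁ v ∈ N₀)
    (hz2 : ∀ v ∈ N₀, ρ z₂ v ∈ N₀) (hq : ∀ v ∈ N₀, nb ρ b (nb ρ b v) = 0) :
    N₀ ≤ W0 ρ z₁ z₂ := by
  intro v hv
  have hz3 : ∀ v ∈ N₀, ρ z₃ v ∈ N₀ := by
    intro v hv
    rw [← hf.rho12]
    exact hz1 _ (hz2 _ hv)
  have h1 : v + ρ z₁ v - ρ z₂ v - ρ z₃ v = 0 :=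
    hf.eq_zero_of_nbsq (hf.isW1_proj v) (hq _ (N₀.sub_mem (N₀.sub_mem (N₀.add_mem hv (hz1 v hv))
      (hz2 v hv)) (hz3 v hv)))
  have h2 : v + ρ z₂ v - ρ z₃ v - ρ z₁ v = 0 :=
    hf.shift.eq_zero_of_nbsq (hf.shift.isW1_proj v) (hq _ (N₀.sub_mem (N₀.sub_mem
      (N₀.add_mem hv (hz2 v hv)) (hz3 v hv)) (hz1 v hv)))
  have h3 : v + ρ z₃ v - ρ z₁ v - ρ z₂ v = 0 :=
    hf.shift.shift.eq_zero_of_nbsq (hf.shift.shift.isW1_proj v) (hq _ (N₀.sub_mem (N₀.sub_mem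
      (N₀.add_mem hv (hz3 v hv)) (hz1 v hv)) (hz2 v hv)))
  have hd := decomp (ρ := ρ) (z₁ := z₁) (z₂ := z₂) (z₃ := z₃) v
  rw [h1, h2, h3, add_zero, add_zero, add_zero] at hd
  rw [hd]
  exact hf.isW0_proj v

end FourCfg

end Cfsg.Agent.Helper9.HH3
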