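import Cfsg.Agent.Helper9.HH3.Basic

/-!
# Maschke-type decomposition `E = C_E(X) ⊕ [E, X]` for `3'`-subgroups
-/

set_option autoImplicit false

namespace Cfsg.Agent.Helper9.HH3

variable {S : Type*} [Group S] {E : Type*} [AddCommGroup E] [Module (ZMod 3) E]
variable (ρ : Representation (ZMod 3) S E)

open scoped Classical in
/-- The (un-normalized) averaging operator. -/
noncomputable def avgOp (X : Subgroup S) [Finite X] : E →ₗ[ZMod 3] E :=
  letI := Fintype.ofFinite X
  ∑ g : X, ρ (g : S)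

theorem avgOp_apply (X : Subgroup S) [Finite X] (v : E) :
    avgOp ρ X v = letI := Fintype.ofFinite X; ∑ g : X, ρ (g : S) v := by
  unfold avgOp
  rw [LinearMap.sum_apply]

theorem rho_avgOp (X : Subgroup S) [Finite X] {h : S} (hh : h ∈ X) (v : E) :
    ρ h (avgOp ρ X v) = avgOp ρ X v := by
  letI := Fintype.ofFinite X
  rw [avgOp_apply, map_sum]
  refine Fintype.sum_equiv (Equiv.mulLeft (⟨h, hh⟩ : X)) _ _ ?_
  intro g
  rw [← rho_mul_apply]
  rfl

theorem avgOp_rho (X : Subgroup S) [Finite X] {h : S} (hh : h ∈ X) (v : E) :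
    avgOp ρ X (ρ h v) = avgOp ρ X v := by
  letI := Fintype.ofFinite X
  rw [avgOp_apply, avgOp_apply]
  refine Fintype.sum_equiv (Equiv.mulRight (⟨h, hh⟩ : X)) _ _ ?_
  intro g
  rw [← rho_mul_apply]
  rfl

theorem avgOp_of_mem_fixE (X : Subgroup S) [Finite X] {v : E} (hv : v ∈ fixE ρ X) :
    avgOp ρ X v = (Nat.card X : ZMod 3) • v := by
  letI := Fintype.ofFinite X
  rw [avgOp_apply]
  have h1 : ∀ g : X, ρ (g : S) v = v := fun g => hv g g.2
  simp only [h1]
  rw [Finset.sum_const, Finset.card_univ, Nat.card_eq_fintype_card, Nat.cast_smul_eq_nsmul]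

theorem avgOp_of_mem_commE (X : Subgroup S) [Finite X] {v : E} (hv : v ∈ commE ρ X) :
    avgOp ρ X v = 0 := by
  have h1 : commE ρ X ≤ LinearMap.ker (avgOp ρ X) := by
    rw [commE_le_iff]
    intro g hg w
    rw [LinearMap.mem_ker, map_sub, avgOp_rho ρ X hg, sub_self]
  exact LinearMap.mem_ker.1 (h1 hv)

theorem card_smul_sub_avgOp_mem (X : Subgroup S) [Finite X] (v : E) :
    (Nat.card X : ZMod 3) • v - avgOp ρ X v ∈ commE ρ X := by
  letI := Fintype.ofFinite X
  have h1 : (Nat.card X : ZMod 3) • v - avgOp ρ X v = ∑ g : X, (v - ρ (g : S) v) := by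
    rw [avgOp_apply, Finset.sum_sub_distrib, Finset.sum_const, Finset.card_univ,
      Nat.card_eq_fintype_card, Nat.cast_smul_eq_nsmul]
  rw [h1]
  apply Submodule.sum_mem
  intro g _
  have h2 : v - ρ (g : S) v = -(ρ (g : S) v - v) := by abel
  rw [h2]
  exact Submodule.neg_mem _ (sub_mem_commE ρ g.2 v)

/-- **Maschke**: for a `3'`-subgroup, `E = C_E(X) ⊕ [E, X]`. -/
theorem isCompl_fixE_commE (X : Subgroup S) [Finite X] (h3 : ¬ 3 ∣ Nat.card X) :
    IsCompl (fixE ρ X) (commE ρ X) := by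
  have hm : (Nat.card X : ZMod 3) ≠ 0 := by
    intro h
    exact h3 ((ZMod.natCast_eq_zero_iff _ _).1 h)
  constructor
  · rw [Submodule.disjoint_def]
    intro v hv1 hv2
    have h1 := avgOp_of_mem_fixE ρ X hv1
    rw [avgOp_of_mem_commE ρ X hv2] at h1
    rcases smul_eq_zero.1 h1.symm with h | h
    · exact absurd h hm
    · exact h
  · rw [codisjoint_iff, eq_top_iff]
    intro v _
    have h1 : v = (Nat.card X : ZMod 3)⁻¹ • avgOp ρ X v +
        (Nat.card X : ZMod 3)⁻¹ • ((Nat.card X : ZMod 3) • v - avgOp ρ X v) := by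
      rw [smul_sub, smul_smul, inv_mul_cancel₀ hm, one_smul]
      abel
    rw [h1]
    apply Submodule.add_mem
    · apply Submodule.mem_sup_left
      apply Submodule.smul_mem
      intro g hg
      exact rho_avgOp ρ X hg v
    · apply Submodule.mem_sup_right
      apply Submodule.smul_mem
      exact card_smul_sub_avgOp_mem ρ X v

/-- Decomposition of a vector. -/
theorem exists_decomp (X : Subgroup S) [Finite X] (h3 : ¬ 3 ∣ Nat.card X) (v : E) :
    ∃ f ∈ fixE ρ X, ∃ m ∈ commE ρ X, v = f + m := by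
  have h := isCompl_fixE_commE ρ X h3
  have hv : v ∈ fixE ρ X ⊔ commE ρ X := by rw [h.sup_eq_top]; exact Submodule.mem_top
  obtain ⟨f, hf, m, hm, rfl⟩ := Submodule.mem_sup.1 hv
  exact ⟨f, hf, m, hm, rfl⟩

/-- A `3'`-subgroup acts faithfully on its commutator space. -/
theorem eq_one_of_trivial_on_commE (hρ : Function.Injective ρ) (X : Subgroup S) [Finite X]
    (h3 : ¬ 3 ∣ Nat.card X) {g : S} (hg : g ∈ X) (h : ∀ m ∈ commE ρ X, ρ g m = m) : g = 1 := by
  apply hρ
  rw [map_one]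
  ext v
  obtain ⟨f, hf, m, hm, rfl⟩ := exists_decomp ρ X h3 v
  rw [map_add, hf g hg, h m hm]
  rfl

theorem eq_bot_of_commE_eq_bot (hρ : Function.Injective ρ) (X : Subgroup S)
    (h : commE ρ X = ⊥) : X = ⊥ := by
  rw [eq_bot_iff]
  intro g hg
  rw [Subgroup.mem_bot]
  apply hρ
  rw [map_one]
  ext v
  have h1 : ρ g v - v ∈ commE ρ X := sub_mem_commE ρ hg v
  rw [h, Submodule.mem_bot, sub_eq_zero] at h1
  rw [h1]
  rfl

/-- In `[E, X]` there are no nonzero fixed vectors. -/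
theorem eq_zero_of_mem_fixE_of_mem_commE (X : Subgroup S) [Finite X] (h3 : ¬ 3 ∣ Nat.card X)
    {v : E} (h1 : v ∈ fixE ρ X) (h2 : v ∈ commE ρ X) : v = 0 := by
  have h := (isCompl_fixE_commE ρ X h3).disjoint
  rw [Submodule.disjoint_def] at h
  exact h v h1 h2

end Cfsg.Agent.Helper9.HH3
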