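import Mathlib

/-!
# Fixed spaces and commutator spaces of a representation over `ZMod 3`

Helper library for S4415 (a solvable group on a `3`-module with a cubic block).
-/

set_option autoImplicit false

namespace Cfsg.Agent.Helper9.HH3

variable {S : Type*} [Group S] {E : Type*} [AddCommGroup E] [Module (ZMod 3) E]
variable (ρ : Representation (ZMod 3) S E)

theorem rho_mul_apply (g h : S) (v : E) : ρ (g * h) v = ρ g (ρ h v) := by
  rw [map_mul]; rfl

theorem rho_one_apply (v : E) : ρ 1 v = v := by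
  rw [map_one]; rfl

theorem rho_inv_apply (g : S) (v : E) : ρ g⁻¹ (ρ g v) = v := by
  rw [← rho_mul_apply, inv_mul_cancel, rho_one_apply]

theorem rho_apply_inv (g : S) (v : E) : ρ g (ρ g⁻¹ v) = v := by
  rw [← rho_mul_apply, mul_inv_cancel, rho_one_apply]

theorem rho_injective_apply (g : S) {v w : E} (h : ρ g v = ρ g w) : v = w := by
  have := congrArg (ρ g⁻¹) h
  rwa [rho_inv_apply, rho_inv_apply] at this

/-- The fixed space of a subgroup. -/
def fixE (X : Subgroup S) : Submodule (ZMod 3) E where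
  carrier := {v | ∀ g ∈ X, ρ g v = v}
  add_mem' := by
    intro a b ha hb g hg
    rw [map_add, ha g hg, hb g hg]
  zero_mem' := by
    intro g _
    exact map_zero _
  smul_mem' := by
    intro c v hv g hg
    rw [map_smul, hv g hg]

theorem mem_fixE {X : Subgroup S} {v : E} : v ∈ fixE ρ X ↔ ∀ g ∈ X, ρ g v = v := Iff.rfl

/-- The commutator space `[E, X]` of a subgroup. -/
def commE (X : Subgroup S) : Submodule (ZMod 3) E :=
  Submodule.span (ZMod 3) {w | ∃ g ∈ X, ∃ v, w = ρ g v - v}

theorem sub_mem_commE {X : Subgroup S} {g : S} (hg : g ∈ X) (v : E) :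
    ρ g v - v ∈ commE ρ X :=
  Submodule.subset_span ⟨g, hg, v, rfl⟩

theorem commE_le_iff {X : Subgroup S} {W : Submodule (ZMod 3) E} :
    commE ρ X ≤ W ↔ ∀ g ∈ X, ∀ v, ρ g v - v ∈ W := by
  constructor
  · intro h g hg v
    exact h (sub_mem_commE ρ hg v)
  · intro h
    rw [commE, Submodule.span_le]
    rintro w ⟨g, hg, v, rfl⟩
    exact h g hg v

theorem commE_mono {X Y : Subgroup S} (h : X ≤ Y) : commE ρ X ≤ commE ρ Y := by
  rw [commE_le_iff]
  intro g hg v
  exact sub_mem_commE ρ (h hg) v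

theorem fixE_anti {X Y : Subgroup S} (h : X ≤ Y) : fixE ρ Y ≤ fixE ρ X :=
  fun _ hv g hg => hv g (h hg)

/-- `[E, X]` is invariant under the normalizer of `X`. -/
theorem map_mem_commE {X : Subgroup S} {g : S} (hg : ∀ x ∈ X, g * x * g⁻¹ ∈ X) {w : E}
    (hw : w ∈ commE ρ X) : ρ g w ∈ commE ρ X := by
  have h1 : commE ρ X ≤ (commE ρ X).comap (ρ g) := by
    rw [commE_le_iff]
    intro x hx v
    rw [Submodule.mem_comap, map_sub]
    have h2 : ρ g (ρ x v) = ρ (g * x * g⁻¹) (ρ g v) := by
      rw [← rho_mul_apply, ← rho_mul_apply]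
      congr 2
      group
    rw [h2]
    exact sub_mem_commE ρ (hg x hx) _
  exact h1 hw

/-- `C_E(X)` is invariant under the normalizer of `X`. -/
theorem map_mem_fixE {X : Subgroup S} {g : S} (hg : ∀ x ∈ X, g⁻¹ * x * g ∈ X) {w : E}
    (hw : w ∈ fixE ρ X) : ρ g w ∈ fixE ρ X := by
  intro x hx
  have h1 : ρ x (ρ g w) = ρ g (ρ (g⁻¹ * x * g) w) := by
    rw [← rho_mul_apply, ← rho_mul_apply]
    congr 2
    group
  rw [h1, hw _ (hg x hx)]

theorem commE_self_invariant {X : Subgroup S} {g : S} (hg : g ∈ X) {w : E}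
    (hw : w ∈ commE ρ X) : ρ g w ∈ commE ρ X :=
  map_mem_commE ρ (fun x hx => X.mul_mem (X.mul_mem hg hx) (X.inv_mem hg)) hw

/-- If `W` contains `(a - 1) E` for all generators `a`, then it contains `[E, closure A]`. -/
theorem commE_closure_le {A : Set S} {W : Submodule (ZMod 3) E}
    (h : ∀ a ∈ A, ∀ v, ρ a v - v ∈ W) : commE ρ (Subgroup.closure A) ≤ W := by
  -- the subgroup of elements `g` with `(g - 1) E ≤ W` and `g W ≤ W`
  let T : Subgroup S :=
    { carrier := {g | (∀ v, ρ g v - v ∈ W) ∧ (∀ v, ρ g⁻¹ v - v ∈ W)}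
      mul_mem' := by
        rintro a b ⟨ha, ha'⟩ ⟨hb, hb'⟩
        constructor
        · intro v
          have h1 : ρ (a * b) v - v = (ρ a (ρ b v) - ρ b v) + (ρ b v - v) := by
            rw [rho_mul_apply]; abel
          rw [h1]
          exact W.add_mem (ha _) (hb _)
        · intro v
          have h1 : ρ (a * b)⁻¹ v - v = (ρ b⁻¹ (ρ a⁻¹ v) - ρ a⁻¹ v) + (ρ a⁻¹ v - v) := by
            rw [mul_inv_rev, rho_mul_apply]; abel
          rw [h1]
          exact W.add_mem (hb' _) (ha' _)
      one_mem' := by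
        constructor
        · intro v
          rw [rho_one_apply, sub_self]; exact W.zero_mem
        · intro v
          rw [inv_one, rho_one_apply, sub_self]; exact W.zero_mem
      inv_mem' := by
        rintro a ⟨ha, ha'⟩
        refine ⟨ha', ?_⟩
        intro v
        rw [inv_inv]
        exact ha v }
  have hAT : Subgroup.closure A ≤ T := by
    rw [Subgroup.closure_le]
    intro a ha
    refine ⟨h a ha, ?_⟩
    intro v
    have h1 : ρ a⁻¹ v - v = -(ρ a (ρ a⁻¹ v) - ρ a⁻¹ v) := by
      rw [rho_apply_inv]; abel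
    rw [h1]
    exact W.neg_mem (h a ha _)
  rw [commE_le_iff]
  intro g hg v
  exact (hAT hg).1 v

theorem commE_sup (X Y : Subgroup S) : commE ρ (X ⊔ Y) = commE ρ X ⊔ commE ρ Y := by
  apply le_antisymm
  · have h1 : X ⊔ Y = Subgroup.closure ((X : Set S) ∪ (Y : Set S)) := by
      rw [Subgroup.closure_union, Subgroup.closure_eq, Subgroup.closure_eq]
    rw [h1]
    apply commE_closure_le
    rintro a (ha | ha) v
    · exact (le_sup_left : commE ρ X ≤ _) (sub_mem_commE ρ ha v)
    · exact (le_sup_right : commE ρ Y ≤ _) (sub_mem_commE ρ ha v)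
  · exact sup_le (commE_mono ρ le_sup_left) (commE_mono ρ le_sup_right)

/-- For a cyclic group the commutator space is the range of `g - 1`. -/
theorem commE_zpowers_le (g : S) {W : Submodule (ZMod 3) E} (h : ∀ v, ρ g v - v ∈ W) :
    commE ρ (Subgroup.zpowers g) ≤ W := by
  rw [Subgroup.zpowers_eq_closure]
  apply commE_closure_le
  intro a ha v
  rw [Set.mem_singleton_iff] at ha
  rw [ha]
  exact h v

end Cfsg.Agent.Helper9.HH3
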