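import Cfsg.Agent.Helper9.HH3.IndDefs

/-!
# The structure theorem for `R = [R, B]`: the second centre (pure group theory)
-/

set_option autoImplicit false

namespace Cfsg.Agent.Helper9.HH3

variable {S : Type*} [Group S]

/-- `b` has order dividing three, normalizes `R`, and `R = [R, ⟨b⟩]`. -/
structure BAct (b : S) (R : Subgroup S) : Prop where
  b3 : b ^ 3 = 1
  inv : ∀ r ∈ R, b * r * b⁻¹ ∈ R
  gen : ⁅R, Subgroup.zpowers b⁆ = R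

/-- `Z(R) = {1, c}` with `c` an involution fixed by `b`. -/
structure CenInv (b : S) (R : Subgroup S) (c : S) : Prop where
  mem : c ∈ R
  ne : c ≠ 1
  sq : c * c = 1
  fix : b * c * b⁻¹ = c
  comm : ∀ r ∈ R, c * r = r * c
  uniq : ∀ z ∈ R, (∀ r ∈ R, z * r = r * z) → z = 1 ∨ z = c

namespace BAct

variable {b : S} {R : Subgroup S} (hB : BAct b R)
include hB

theorem inv' {r : S} (hr : r ∈ R) : b⁻¹ * r * b ∈ R := conj_inv_mem hB.b3 hB.inv hr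

theorem le_of_comm (H : Subgroup S) (h : ∀ r ∈ R, r * b * r⁻¹ * b⁻¹ ∈ H) : R ≤ H :=
  le_of_commutator_mem hB.b3 hB.inv hB.gen H h

end BAct

/-- The subgroup `{1, c}`. -/
theorem mem_zpowers_inv {c : S} (hc : c * c = 1) {ζ : S} :
    ζ ∈ Subgroup.zpowers c ↔ ζ = 1 ∨ ζ = c := by
  constructor
  · intro h
    obtain ⟨k, rfl⟩ := Subgroup.mem_zpowers_iff.1 h
    have h2 : c ^ (2 : ℤ) = 1 := by
      have : c ^ (2 : ℤ) = c ^ (2 : ℕ) := by norm_cast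
      rw [this, pow_two, hc]
    have hk : c ^ k = c ^ (k % 2) := by
      conv_lhs => rw [← Int.mul_ediv_add_emod k 2]
      rw [zpow_add, zpow_mul, h2, one_zpow, one_mul]
    rw [hk]
    have : k % 2 = 0 ∨ k % 2 = 1 := by omega
    rcases this with h | h
    · left; rw [h, zpow_zero]
    · right; rw [h, zpow_one]
  · rintro (rfl | rfl)
    · exact Subgroup.one_mem _
    · exact Subgroup.mem_zpowers _

namespace CenInv

variable {b : S} {R : Subgroup S} {c : S} (hc : CenInv b R c)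
include hc

theorem inv_c : c⁻¹ = c := inv_eq_of_mul_eq_one_right hc.sq

theorem z_mem {ζ : S} (hζ : ζ ∈ Subgroup.zpowers c) : ζ ∈ R := by
  rcases (mem_zpowers_inv hc.sq).1 hζ with rfl | rfl
  · exact R.one_mem
  · exact hc.mem

theorem z_comm {ζ : S} (hζ : ζ ∈ Subgroup.zpowers c) {r : S} (hr : r ∈ R) : ζ * r = r * ζ := by
  rcases (mem_zpowers_inv hc.sq).1 hζ with rfl | rfl
  · rw [one_mul, mul_one]
  · exact hc.comm r hr

theorem z_sq {ζ : S} (hζ : ζ ∈ Subgroup.zpowers c) : ζ * ζ = 1 := by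
  rcases (mem_zpowers_inv hc.sq).1 hζ with rfl | rfl
  · rw [one_mul]
  · exact hc.sq

theorem z_inv {ζ : S} (hζ : ζ ∈ Subgroup.zpowers c) : ζ⁻¹ = ζ :=
  inv_eq_of_mul_eq_one_right (hc.z_sq hζ)

theorem z_fix {ζ : S} (hζ : ζ ∈ Subgroup.zpowers c) : b * ζ = ζ * b := by
  rcases (mem_zpowers_inv hc.sq).1 hζ with h | h
  · rw [h, one_mul, mul_one]
  · have := hc.fix
    rw [h]
    calc b * c = b * c * b⁻¹ * b := by group
      _ = c * b := by rw [this]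

theorem z_fix' {ζ : S} (hζ : ζ ∈ Subgroup.zpowers c) : b⁻¹ * ζ = ζ * b⁻¹ := by
  have := hc.z_fix hζ
  calc b⁻¹ * ζ = b⁻¹ * (ζ * b) * b⁻¹ := by group
    _ = b⁻¹ * (b * ζ) * b⁻¹ := by rw [this]
    _ = ζ * b⁻¹ := by group

/-- central elements of `R` lie in `{1, c}` -/
theorem z_of_central {z : S} (hz : z ∈ R) (h : ∀ r ∈ R, z * r = r * z) :
    z ∈ Subgroup.zpowers c :=
  (mem_zpowers_inv hc.sq).2 (hc.uniq z hz h)

theorem isZ2_iff {x : S} : IsZ2 R c x ↔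
    x ∈ R ∧ ∀ r ∈ R, ∃ ζ ∈ Subgroup.zpowers c, x * r = r * x * ζ := by
  constructor
  · rintro ⟨hx, h⟩
    refine ⟨hx, fun r hr => ?_⟩
    rcases h r hr with h1 | h1
    · exact ⟨1, Subgroup.one_mem _, by rw [mul_one, h1]⟩
    · exact ⟨c, Subgroup.mem_zpowers _, h1⟩
  · rintro ⟨hx, h⟩
    refine ⟨hx, fun r hr => ?_⟩
    obtain ⟨ζ, hζ, h1⟩ := h r hr
    rcases (mem_zpowers_inv hc.sq).1 hζ with rfl | rfl
    · left; rw [h1, mul_one]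
    · right; exact h1

theorem isZ2_of_z {ζ : S} (hζ : ζ ∈ Subgroup.zpowers c) : IsZ2 R c ζ :=
  ⟨hc.z_mem hζ, fun _ hr => Or.inl (hc.z_comm hζ hr)⟩

theorem isZ2_mul {x y : S} (hx : IsZ2 R c x) (hy : IsZ2 R c y) : IsZ2 R c (x * y) := by
  rw [hc.isZ2_iff] at hx hy ⊢
  refine ⟨R.mul_mem hx.1 hy.1, fun r hr => ?_⟩
  obtain ⟨ζ₁, hζ₁, h1⟩ := hx.2 r hr
  obtain ⟨ζ₂, hζ₂, h2⟩ := hy.2 r hr
  refine ⟨ζ₁ * ζ₂, Subgroup.mul_mem _ hζ₁ hζ₂, ?_⟩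
  have e1 : ζ₂ * ζ₁ = ζ₁ * ζ₂ := hc.z_comm hζ₂ (hc.z_mem hζ₁)
  have e2 : ζ₁ * y = y * ζ₁ := hc.z_comm hζ₁ hy.1
  calc x * y * r = x * (y * r) := by group
    _ = x * (r * y * ζ₂) := by rw [h2]
    _ = (x * r) * y * ζ₂ := by group
    _ = r * x * ζ₁ * y * ζ₂ := by rw [h1]
    _ = r * x * (ζ₁ * y) * ζ₂ := by group
    _ = r * x * (y * ζ₁) * ζ₂ := by rw [e2]
    _ = r * (x * y) * (ζ₁ * ζ₂) := by group

theorem isZ2_inv {x : S} (hx : IsZ2 R c x) : IsZ2 R c x⁻¹ := by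
  rw [hc.isZ2_iff] at hx ⊢
  refine ⟨R.inv_mem hx.1, fun r hr => ?_⟩
  obtain ⟨ζ, hζ, h1⟩ := hx.2 r hr
  refine ⟨ζ, hζ, ?_⟩
  have e1 : ζ * x⁻¹ = x⁻¹ * ζ := hc.z_comm hζ (R.inv_mem hx.1)
  have e2 : r * x = x * r * ζ := by
    rw [h1, mul_assoc, hc.z_sq hζ, mul_one]
  calc x⁻¹ * r = x⁻¹ * (r * x) * x⁻¹ := by group
    _ = x⁻¹ * (x * r * ζ) * x⁻¹ := by rw [e2]
    _ = r * (ζ * x⁻¹) := by group
    _ = r * (x⁻¹ * ζ) := by rw [e1]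
    _ = r * x⁻¹ * ζ := by group

theorem isZ2_one : IsZ2 R c 1 := hc.isZ2_of_z (Subgroup.one_mem _)

/-- conjugating by an element of `R` -/
theorem isZ2_conj {x : S} (hx : IsZ2 R c x) {r : S} (hr : r ∈ R) :
    ∃ ζ ∈ Subgroup.zpowers c, r * x * r⁻¹ = x * ζ := by
  rw [hc.isZ2_iff] at hx
  obtain ⟨ζ, hζ, h1⟩ := hx.2 r hr
  refine ⟨ζ, hζ, ?_⟩
  have e2 : r * x = x * r * ζ := by
    rw [h1, mul_assoc, hc.z_sq hζ, mul_one]
  have e1 : ζ * r⁻¹ = r⁻¹ * ζ := hc.z_comm hζ (R.inv_mem hr)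
  calc r * x * r⁻¹ = x * r * ζ * r⁻¹ := by rw [e2]
    _ = x * r * (ζ * r⁻¹) := by group
    _ = x * r * (r⁻¹ * ζ) := by rw [e1]
    _ = x * ζ := by group

theorem isZ2_sq_central {x : S} (hx : IsZ2 R c x) {r : S} (hr : r ∈ R) :
    (x * x) * r = r * (x * x) := by
  rw [hc.isZ2_iff] at hx
  obtain ⟨ζ, hζ, h1⟩ := hx.2 r hr
  have e1 : ζ * x = x * ζ := hc.z_comm hζ hx.1
  calc x * x * r = x * (x * r) := by group
    _ = x * (r * x * ζ) := by rw [h1]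
    _ = (x * r) * x * ζ := by group
    _ = r * x * ζ * x * ζ := by rw [h1]
    _ = r * x * (ζ * x) * ζ := by group
    _ = r * x * (x * ζ) * ζ := by rw [e1]
    _ = r * (x * x) * (ζ * ζ) := by group
    _ = r * (x * x) := by rw [hc.z_sq hζ, mul_one]

theorem isZ2_sq {x : S} (hx : IsZ2 R c x) : x * x ∈ Subgroup.zpowers c :=
  hc.z_of_central (R.mul_mem hx.1 hx.1) (fun _ hr => hc.isZ2_sq_central hx hr)

end CenInv

section withB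

variable {b : S} {R : Subgroup S} {c : S} (hB : BAct b R) (hc : CenInv b R c)
include hB hc

theorem isZ2_conj_b {x : S} (hx : IsZ2 R c x) : IsZ2 R c (b * x * b⁻¹) := by
  rw [hc.isZ2_iff] at hx ⊢
  refine ⟨hB.inv x hx.1, fun r hr => ?_⟩
  obtain ⟨ζ, hζ, h1⟩ := hx.2 _ (hB.inv' hr)
  refine ⟨ζ, hζ, ?_⟩
  have e1 := hc.z_fix' hζ
  calc b * x * b⁻¹ * r = b * (x * (b⁻¹ * r * b)) * b⁻¹ := by group
    _ = b * (b⁻¹ * r * b * x * ζ) * b⁻¹ := by rw [h1]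
    _ = r * b * x * (ζ * b⁻¹) := by group
    _ = r * b * x * (b⁻¹ * ζ) := by rw [e1]
    _ = r * (b * x * b⁻¹) * ζ := by group

theorem isZ2_conj_b' {x : S} (hx : IsZ2 R c x) : IsZ2 R c (b⁻¹ * x * b) := by
  have h1 := isZ2_conj_b hB hc (isZ2_conj_b hB hc hx)
  have e : b * (b * x * b⁻¹) * b⁻¹ = b⁻¹ * x * b := by
    have hb : b⁻¹ = b * b := inv_eq_sq_of_cube hB.b3
    have hb' : b * b * b = 1 := by rw [← hB.b3, pow_succ, pow_two]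
    calc b * (b * x * b⁻¹) * b⁻¹ = (b * b) * x * (b⁻¹ * b⁻¹) := by group
      _ = b⁻¹ * x * (b⁻¹ * b⁻¹) := by rw [← hb]
      _ = b⁻¹ * x * (b⁻¹ * b⁻¹ * (b * b * b)) := by rw [hb', mul_one]
      _ = b⁻¹ * x * b := by group
  rwa [e] at h1

/-- An element of the second centre whose coset modulo the centre is `b`-fixed is central. -/
theorem central_of_conj {x ζ₀ : S} (hx : IsZ2 R c x) (hζ₀ : ζ₀ ∈ Subgroup.zpowers c)
    (hbx : b * x * b⁻¹ = x * ζ₀) : ∀ r ∈ R, x * r = r * x := by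
  have hle : R ≤ Subgroup.centralizer {x} := by
    apply hB.le_of_comm
    intro r hr
    rw [Subgroup.mem_centralizer_iff]
    intro h hh
    rw [Set.mem_singleton_iff] at hh
    rw [hh]
    have hx' := (hc.isZ2_iff.1 hx)
    obtain ⟨ζ, hζ, h1⟩ := hx'.2 r hr
    -- x * r = r * x * ζ
    have h2 : x * r⁻¹ = r⁻¹ * x * ζ := by
      have e1 : ζ * r⁻¹ = r⁻¹ * ζ := hc.z_comm hζ (R.inv_mem hr)
      have e2 : r * x = x * r * ζ := by rw [h1, mul_assoc, hc.z_sq hζ, mul_one]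
      calc x * r⁻¹ = r⁻¹ * (r * x) * r⁻¹ := by group
        _ = r⁻¹ * (x * r * ζ) * r⁻¹ := by rw [e2]
        _ = r⁻¹ * x * r * (ζ * r⁻¹) := by group
        _ = r⁻¹ * x * r * (r⁻¹ * ζ) := by rw [e1]
        _ = r⁻¹ * x * ζ := by group
    have h3 : x * b = b * x * ζ₀ := by
      have e0 : ζ₀ * b = b * ζ₀ := (hc.z_fix hζ₀).symm
      have : b * x = x * ζ₀ * b := by
        calc b * x = b * x * b⁻¹ * b := by group
          _ = x * ζ₀ * b := by rw [hbx]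
      rw [this, mul_assoc x, e0, mul_assoc, mul_assoc, hc.z_sq hζ₀, mul_one]
    have h4 : x * b⁻¹ = b⁻¹ * x * ζ₀ := by
      have e1 : ζ₀ * b⁻¹ = b⁻¹ * ζ₀ := (hc.z_fix' hζ₀).symm
      calc x * b⁻¹ = b⁻¹ * (b * x * b⁻¹) := by group
        _ = b⁻¹ * (x * ζ₀) := by rw [hbx]
        _ = b⁻¹ * x * ζ₀ := by group
    have e3 : ζ * b = b * ζ := (hc.z_fix hζ).symm
    have e4 : ζ * r⁻¹ = r⁻¹ * ζ := hc.z_comm hζ (R.inv_mem hr)
    have e5 : ζ₀ * r⁻¹ = r⁻¹ * ζ₀ := hc.z_comm hζ₀ (R.inv_mem hr)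
    have e6 : ζ * b⁻¹ = b⁻¹ * ζ := (hc.z_fix' hζ).symm
    have e7 : ζ₀ * b⁻¹ = b⁻¹ * ζ₀ := (hc.z_fix' hζ₀).symm
    have e8 : ζ * ζ₀ = ζ₀ * ζ := hc.z_comm hζ (hc.z_mem hζ₀)
    calc x * (r * b * r⁻¹ * b⁻¹) = (x * r) * b * r⁻¹ * b⁻¹ := by group
      _ = r * x * ζ * b * r⁻¹ * b⁻¹ := by rw [h1]
      _ = r * x * (ζ * b) * r⁻¹ * b⁻¹ := by group
      _ = r * x * (b * ζ) * r⁻¹ * b⁻¹ := by rw [e3]
      _ = r * (x * b) * (ζ * r⁻¹) * b⁻¹ := by group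
      _ = r * (b * x * ζ₀) * (r⁻¹ * ζ) * b⁻¹ := by rw [h3, e4]
      _ = r * b * x * (ζ₀ * r⁻¹) * (ζ * b⁻¹) := by group
      _ = r * b * x * (r⁻¹ * ζ₀) * (b⁻¹ * ζ) := by rw [e5, e6]
      _ = r * b * (x * r⁻¹) * (ζ₀ * b⁻¹) * ζ := by group
      _ = r * b * (r⁻¹ * x * ζ) * (b⁻¹ * ζ₀) * ζ := by rw [h2, e7]
      _ = r * b * r⁻¹ * x * (ζ * b⁻¹) * ζ₀ * ζ := by group
      _ = r * b * r⁻¹ * x * (b⁻¹ * ζ) * ζ₀ * ζ := by rw [e6]
      _ = r * b * r⁻¹ * (x * b⁻¹) * (ζ * ζ₀) * ζ := by group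
      _ = r * b * r⁻¹ * (b⁻¹ * x * ζ₀) * (ζ₀ * ζ) * ζ := by rw [h4, e8]
      _ = r * b * r⁻¹ * b⁻¹ * x * (ζ₀ * ζ₀) * (ζ * ζ) := by group
      _ = r * b * r⁻¹ * b⁻¹ * x := by rw [hc.z_sq hζ, hc.z_sq hζ₀, mul_one, mul_one]
  intro r hr
  have := Subgroup.mem_centralizer_iff.1 (hle hr) x (Set.mem_singleton x)
  exact this

end withB

end Cfsg.Agent.Helper9.HH3
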