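import Cfsg.Agent.Helper9.HH3.Basic

/-!
# Elements of a commutator subgroup are not reflections
-/

set_option autoImplicit false

namespace Cfsg.Agent.Helper9.HH3

variable {S : Type*} [Group S] {E : Type*} [AddCommGroup E] [Module (ZMod 3) E]
variable (ρ : Representation (ZMod 3) S E)

/-- `det ∘ ρ` is trivial on commutator subgroups. -/
theorem det_eq_one_of_mem_commutator {H K : Subgroup S} {g : S} (hg : g ∈ ⁅H, K⁆) :
    LinearMap.det (ρ g) = 1 := by
  let φ : S →* ZMod 3 := (LinearMap.det : (E →ₗ[ZMod 3] E) →* ZMod 3).comp ρ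
  have hφ : ∀ x, φ x = LinearMap.det (ρ x) := fun _ => rfl
  rw [← hφ]
  have hinv : ∀ x : S, φ x * φ x⁻¹ = 1 := by
    intro x
    rw [← map_mul, mul_inv_cancel, map_one]
  rw [Subgroup.commutator_def] at hg
  induction hg using Subgroup.closure_induction with
  | mem x hx =>
    obtain ⟨h, _, k, _, rfl⟩ := hx
    rw [commutatorElement_def, map_mul, map_mul, map_mul]
    calc φ h * φ k * φ h⁻¹ * φ k⁻¹ = (φ h * φ h⁻¹) * (φ k * φ k⁻¹) := by ring
      _ = 1 := by rw [hinv, hinv, one_mul]
  | one => exact map_one φ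
  | mul x y _ _ hx hy => rw [map_mul, hx, hy, one_mul]
  | inv x _ hx =>
    have := hinv x
    rw [hx, one_mul] at this
    exact this

variable [Finite E]

/-- An element of determinant one is not a reflection. -/
theorem not_reflection {g : S} (hdet : LinearMap.det (ρ g) = 1) {w : E} (hw0 : w ≠ 0)
    (hw : ρ g w = -w) (hrng : ∀ v, ∃ α : ZMod 3, ρ g v - v = α • w) : False := by
  let ψ : E →ₗ[ZMod 3] E := ρ g - LinearMap.id
  have hmem : ∀ v, ψ v ∈ Submodule.span (ZMod 3) {w} := by
    intro v
    obtain ⟨α, hα⟩ := hrng v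
    show (ρ g - LinearMap.id : E →ₗ[ZMod 3] E) v ∈ _
    rw [LinearMap.sub_apply, LinearMap.id_apply, hα]
    exact Submodule.smul_mem _ _ (Submodule.mem_span_singleton_self w)
  let φ : E →ₗ[ZMod 3] Submodule.span (ZMod 3) {w} :=
    ψ.codRestrict (Submodule.span (ZMod 3) {w}) hmem
  let f : E →ₗ[ZMod 3] ZMod 3 := (LinearEquiv.coord (ZMod 3) E w hw0).toLinearMap ∘ₗ φ
  have hf : ∀ v, f v • w = ρ g v - v := by
    intro v
    have h1 := LinearEquiv.coord_apply_smul (ZMod 3) E w hw0 (φ v)
    exact h1
  have htr : ρ g = LinearMap.transvection f w := by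
    ext x
    rw [LinearMap.transvection.apply, hf]
    abel
  have hdet' : LinearMap.det (ρ g) = 1 + f w := by
    rw [htr]
    exact LinearMap.transvection.det f w
  have hfw : f w = 1 := by
    have h1 := hf w
    rw [hw] at h1
    have h2 : (f w - 1) • w = 0 := by
      rw [sub_smul, one_smul, h1]
      have := ZModModule.char_nsmul_eq_zero 3 w
      rw [succ_nsmul, succ_nsmul, one_nsmul] at this
      have e : -w - w - w = -(w + w + w) := by abel
      rw [e, this, neg_zero]
    rcases smul_eq_zero.1 h2 with h3 | h3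
    · exact sub_eq_zero.1 h3
    · exact absurd h3 hw0
  rw [hdet, hfw] at hdet'
  revert hdet'
  decide

end Cfsg.Agent.Helper9.HH3
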