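import Cfsg.Agent.Helper9.HH3.Four3
import Cfsg.Agent.Helper9.HH3.IndZ2
import Cfsg.Agent.Helper9.HH3.NoRefl

/-!
# The centre of `R = [R, B]` when `B` centralizes it
-/

set_option autoImplicit false

namespace Cfsg.Agent.Helper9.HH3

variable {S : Type*} [Group S] [Finite S] {E : Type*} [AddCommGroup E] [Module (ZMod 3) E]
variable {ρ : Representation (ZMod 3) S E} {b : S} {v₀ : E} {R : Subgroup S}

theorem not_three_dvd_of_le {X R : Subgroup S} (hR2 : IsPGroup 2 ↥R) (hXR : X ≤ R) :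
    ¬ 3 ∣ Nat.card ↥X := by
  have hX2 : IsPGroup 2 ↥X := hR2.to_le hXR
  obtain ⟨n, hn⟩ := IsPGroup.iff_card.1 hX2
  rw [hn]
  intro h
  have := Nat.Prime.dvd_of_dvd_pow Nat.prime_three h
  omega

omit [Finite S] in
theorem mem_fixE_zpowers {g : S} {u : E} (h : ρ g u = u) : u ∈ fixE ρ (Subgroup.zpowers g) := by
  have h1 : Subgroup.zpowers g ≤ ptStab ρ (Submodule.span (ZMod 3) {u}) := by
    rw [Subgroup.zpowers_le, mem_ptStab]
    intro w hw
    obtain ⟨a, rfl⟩ := Submodule.mem_span_singleton.1 hw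
    rw [map_smul, h]
  intro x hx
  exact h1 hx u (Submodule.mem_span_singleton_self u)

omit [Finite S] in
theorem conj_eq_of_mem_zpowers {g z : S} (h : g * z = z * g) {x : S}
    (hx : x ∈ Subgroup.zpowers z) : g * x * g⁻¹ = x ∧ g⁻¹ * x * g = x := by
  have h1 : Subgroup.zpowers z ≤ Subgroup.centralizer {g} := by
    rw [Subgroup.zpowers_le, Subgroup.mem_centralizer_iff]
    intro y hy
    rw [Set.mem_singleton_iff] at hy
    rw [hy, h]
  have h2 := Subgroup.mem_centralizer_iff.1 (h1 hx) g (Set.mem_singleton g)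
  constructor
  · rw [h2]; group
  · calc g⁻¹ * x * g = g⁻¹ * (x * g) := by group
      _ = g⁻¹ * (g * x) := by rw [h2]
      _ = x := by group

/-- A nontrivial central element of `R` fixed by `b`: both `b` and `R` are trivial on its
fixed space. -/
theorem triv_fix_of_central (hc : Cub ρ b v₀) (hB : BAct b R) (hR2 : IsPGroup 2 ↥R) {z : S}
    (hzR : z ∈ R) (hzc : ∀ r ∈ R, z * r = r * z) (hzb : b * z = z * b) (hz1 : z ≠ 1) :
    (∀ v ∈ fixE ρ (Subgroup.zpowers z), ρ b v = v) ∧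
    (∀ r ∈ R, ∀ v ∈ fixE ρ (Subgroup.zpowers z), ρ r v = v) := by
  set X := Subgroup.zpowers z with hX
  have hXR : X ≤ R := by rw [hX, Subgroup.zpowers_le]; exact hzR
  have hX3 : ¬ 3 ∣ Nat.card ↥X := not_three_dvd_of_le hR2 hXR
  have hcompl := isCompl_fixE_commE ρ X hX3
  have hbfix : ∀ v ∈ fixE ρ X, ρ b v ∈ fixE ρ X := fun v hv =>
    map_mem_fixE ρ (fun x hx => by rw [(conj_eq_of_mem_zpowers hzb hx).2]; exact hx) hv
  have hbcomm : ∀ v ∈ commE ρ X, ρ b v ∈ commE ρ X := fun v hv =>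
    map_mem_commE ρ (fun x hx => by rw [(conj_eq_of_mem_zpowers hzb hx).1]; exact hx) hv
  have hrfix : ∀ r ∈ R, ∀ v ∈ fixE ρ X, ρ r v ∈ fixE ρ X := fun r hr v hv =>
    map_mem_fixE ρ (fun x hx => by
      rw [(conj_eq_of_mem_zpowers (hzc r hr).symm hx).2]; exact hx) hv
  have hrcomm : ∀ r ∈ R, ∀ v ∈ commE ρ X, ρ r v ∈ commE ρ X := fun r hr v hv =>
    map_mem_commE ρ (fun x hx => by
      rw [(conj_eq_of_mem_zpowers (hzc r hr).symm hx).1]; exact hx) hv
  rcases hc.triv_or_triv hcompl hbfix hbcomm with h1 | h1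
  · exact ⟨h1, triv_of_comm_eq hB.gen hrfix h1⟩
  · exfalso
    have h2 := triv_of_comm_eq hB.gen hrcomm h1
    exact hz1 (eq_one_of_trivial_on_commE ρ hc.faith X hX3 (Subgroup.mem_zpowers z)
      (fun m hm => h2 z hzR m hm))

/-- Central elements of `R` fixed by `b` are involutions. -/
theorem sq_eq_one_of_central (hc : Cub ρ b v₀) (hB : BAct b R) (hR2 : IsPGroup 2 ↥R) {z : S}
    (hzR : z ∈ R) (hzc : ∀ r ∈ R, z * r = r * z) (hzb : b * z = z * b) : z * z = 1 := by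
  by_contra hne
  have htR : z * z ∈ R := R.mul_mem hzR hzR
  have htc : ∀ r ∈ R, (z * z) * r = r * (z * z) := by
    intro r hr
    rw [mul_assoc, hzc r hr, ← mul_assoc, hzc r hr, mul_assoc]
  have htb : b * (z * z) = (z * z) * b := by
    rw [← mul_assoc, hzb, mul_assoc, hzb, mul_assoc]
  obtain ⟨h1, -⟩ := triv_fix_of_central hc hB hR2 htR htc htb hne
  set X := Subgroup.zpowers (z * z) with hX
  have hXR : X ≤ R := by rw [hX, Subgroup.zpowers_le]; exact htR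
  have hX3 : ¬ 3 ∣ Nat.card ↥X := not_three_dvd_of_le hR2 hXR
  have hcompl := isCompl_fixE_commE ρ X hX3
  have hbcomm : ∀ v ∈ commE ρ X, ρ b v ∈ commE ρ X := fun v hv =>
    map_mem_commE ρ (fun x hx => by rw [(conj_eq_of_mem_zpowers htb hx).1]; exact hx) hv
  have hp1 : nb ρ b v₀ ∈ commE ρ X := Cub.nb_mem_of_triv hcompl hbcomm h1 v₀
  have hp2 : nb ρ b (nb ρ b v₀) ∈ commE ρ X := Cub.nb_mem_of_triv hcompl hbcomm h1 _
  -- `z` commutes with `nb`
  have hcomm : ∀ x, ρ z (nb ρ b x) = nb ρ b (ρ z x) := by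
    intro x
    rw [nb_apply, nb_apply, map_sub, ← rho_mul_apply, ← rho_mul_apply, hzb]
  obtain ⟨κ, hκ⟩ := hc.sq_rng (ρ z v₀)
  have hz2 : ρ z (nb ρ b (nb ρ b v₀)) = κ • nb ρ b (nb ρ b v₀) := by
    rw [hcomm, hcomm, hκ]
  have hκ0 : κ ≠ 0 := by
    intro h0
    rw [h0, zero_smul] at hz2
    have : ρ z (nb ρ b (nb ρ b v₀)) = ρ z 0 := by rw [hz2, map_zero]
    exact hc.top (rho_injective_apply ρ z this)
  have hκ2 : κ * κ = 1 := by
    have key : ∀ k : ZMod 3, k ≠ 0 → k * k = 1 := by decide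
    exact key κ hκ0
  have hfix : ρ (z * z) (nb ρ b (nb ρ b v₀)) = nb ρ b (nb ρ b v₀) := by
    rw [rho_mul_apply, hz2, map_smul, hz2, smul_smul, hκ2, one_smul]
  have := eq_zero_of_mem_fixE_of_mem_commE ρ X hX3 (mem_fixE_zpowers hfix) hp2
  exact hc.top this

/-- A nontrivial central element of `R` fixed by `b` acts as `-1` on `[E, R]`. -/
theorem neg_on_commE_of_central (hc : Cub ρ b v₀) (hB : BAct b R) (hR2 : IsPGroup 2 ↥R) {z : S}
    (hzR : z ∈ R) (hzc : ∀ r ∈ R, z * r = r * z) (hzb : b * z = z * b) (hz1 : z ≠ 1) :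
    ∀ v ∈ commE ρ R, ρ z v = -v := by
  intro v hv
  have hsq := sq_eq_one_of_central hc hB hR2 hzR hzc hzb
  obtain ⟨-, h2⟩ := triv_fix_of_central hc hB hR2 hzR hzc hzb hz1
  have hR3 : ¬ 3 ∣ Nat.card ↥R := not_three_dvd_of_le hR2 le_rfl
  have hu : ρ z (v + ρ z v) = v + ρ z v := by
    rw [map_add, ← rho_mul_apply, hsq, rho_one_apply, add_comm]
  have hu1 : v + ρ z v ∈ fixE ρ R := fun r hr => h2 r hr _ (mem_fixE_zpowers hu)
  have hu2 : v + ρ z v ∈ commE ρ R :=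
    (commE ρ R).add_mem hv (commE_self_invariant ρ hzR hv)
  have := eq_zero_of_mem_fixE_of_mem_commE ρ R hR3 hu1 hu2
  exact eq_neg_of_add_eq_zero_right this

/-- **The centre in Case Z2.** -/
theorem exists_cenInv (hc : Cub ρ b v₀) (hB : BAct b R) (hR2 : IsPGroup 2 ↥R) (hne : R ≠ ⊥)
    (hZb : ∀ z ∈ R, (∀ r ∈ R, z * r = r * z) → b * z * b⁻¹ = z) :
    ∃ c, CenInv b R c ∧ ∀ v ∈ commE ρ R, ρ c v = -v := by
  have hnt : Nontrivial ↥R := (Subgroup.nontrivial_iff_ne_bot R).2 hne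
  have hcn : Nontrivial ↥(Subgroup.center ↥R) := hR2.center_nontrivial
  obtain ⟨z, hz⟩ := exists_ne (1 : ↥(Subgroup.center ↥R))
  have hzR : (z : ↥R).1 ∈ R := (z : ↥R).2
  have hzc : ∀ r ∈ R, (z : ↥R).1 * r = r * (z : ↥R).1 := by
    intro r hr
    have h1 := Subgroup.mem_center_iff.1 z.2 ⟨r, hr⟩
    have h2 := congrArg Subtype.val h1
    exact h2.symm
  have hz1 : (z : ↥R).1 ≠ 1 := by
    intro h
    apply hz
    apply Subtype.ext
    apply Subtype.ext
    exact h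
  have hbcomm : ∀ z' ∈ R, (∀ r ∈ R, z' * r = r * z') → b * z' = z' * b := by
    intro z' hz' hc'
    have := hZb z' hz' hc'
    calc b * z' = b * z' * b⁻¹ * b := by group
      _ = z' * b := by rw [this]
  have hR3 : ¬ 3 ∣ Nat.card ↥R := not_three_dvd_of_le hR2 le_rfl
  refine ⟨(z : ↥R).1, ⟨hzR, hz1, sq_eq_one_of_central hc hB hR2 hzR hzc (hbcomm _ hzR hzc),
    hZb _ hzR hzc, hzc, ?_⟩, neg_on_commE_of_central hc hB hR2 hzR hzc (hbcomm _ hzR hzc) hz1⟩
  intro z' hz'R hz'c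
  by_cases hz'1 : z' = 1
  · left; exact hz'1
  · right
    apply hc.faith
    ext v
    obtain ⟨f, hf, m, hm, rfl⟩ := exists_decomp ρ R hR3 v
    rw [map_add, map_add, hf z' hz'R, hf _ hzR,
      neg_on_commE_of_central hc hB hR2 hz'R hz'c (hbcomm _ hz'R hz'c) hz'1 m hm,
      neg_on_commE_of_central hc hB hR2 hzR hzc (hbcomm _ hzR hzc) hz1 m hm]

end Cfsg.Agent.Helper9.HH3
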