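import Cfsg.Agent.Helper9.HH3.Diag
import Cfsg.Agent.Helper9.HH3.CaseZ2

/-!
# Case Z1: `b` moves a central element of `R`; then `R` is a four-group
-/

set_option autoImplicit false

namespace Cfsg.Agent.Helper9.HH3

variable {S : Type*} [Group S] {E : Type*} [AddCommGroup E] [Module (ZMod 3) E]
variable {ρ : Representation (ZMod 3) S E} {b : S} {v₀ : E} {R : Subgroup S}

/-- An involution `u` with `u * u^b * u^(b²) = 1` in a `b`-invariant abelian `2`-group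
moved by `b`. -/
theorem exists_fourCfg_of_moved (hB : BAct b R) (hR2 : IsPGroup 2 ↥R) {z : S} (hzR : z ∈ R)
    (hzc : ∀ r ∈ R, z * r = r * z) (hzb : b * z * b⁻¹ ≠ z) :
    ∃ z₁ z₂ z₃, FourCfg b z₁ z₂ z₃ ∧ z₁ ∈ R ∧ ∀ r ∈ R, z₁ * r = r * z₁ := by
  -- the centre of `R` as a subgroup of `S`
  set Zs : Subgroup S := R ⊓ Subgroup.centralizer (R : Set S) with hZs
  have hZmem : ∀ {y : S}, y ∈ Zs ↔ y ∈ R ∧ ∀ r ∈ R, y * r = r * y := by
    intro y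
    rw [hZs, Subgroup.mem_inf, Subgroup.mem_centralizer_iff]
    constructor
    · rintro ⟨h1, h2⟩
      exact ⟨h1, fun r hr => (h2 r hr).symm⟩
    · rintro ⟨h1, h2⟩
      exact ⟨h1, fun r hr => (h2 r hr).symm⟩
  have hZb : ∀ {y : S}, y ∈ Zs → b * y * b⁻¹ ∈ Zs := by
    intro y hy
    rw [hZmem] at hy ⊢
    refine ⟨hB.inv y hy.1, fun r hr => ?_⟩
    have h1 := hy.2 _ (hB.inv' hr)
    calc b * y * b⁻¹ * r = b * (y * (b⁻¹ * r * b)) * b⁻¹ := by group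
      _ = b * (b⁻¹ * r * b * y) * b⁻¹ := by rw [h1]
      _ = r * (b * y * b⁻¹) := by group
  have hZcomm : ∀ {x y : S}, x ∈ Zs → y ∈ Zs → x * y = y * x := by
    intro x y hx hy
    exact (hZmem.1 hx).2 y (hZmem.1 hy).1
  have hzZ : z ∈ Zs := hZmem.2 ⟨hzR, hzc⟩
  -- p, q, s
  set p : S := z⁻¹ * (b * z * b⁻¹) with hp
  have hpZ : p ∈ Zs := Zs.mul_mem (Zs.inv_mem hzZ) (hZb hzZ)
  have hp1 : p ≠ 1 := by
    intro h
    apply hzb
    have : b * z * b⁻¹ = z * p := by rw [hp]; group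
    rw [this, h, mul_one]
  set q : S := b * p * b⁻¹ with hq
  set s : S := b * q * b⁻¹ with hs
  have hqZ : q ∈ Zs := hZb hpZ
  have hsZ : s ∈ Zs := hZb hqZ
  have hb3 : b * b * b = 1 := by rw [← hB.b3, pow_succ, pow_two]
  have hbs : b * s * b⁻¹ = p := by
    rw [hs, hq]
    calc b * (b * (b * p * b⁻¹) * b⁻¹) * b⁻¹ = (b * b * b) * p * (b * b * b)⁻¹ := by group
      _ = p := by rw [hb3]; group
  have hpqs : p * q * s = 1 := by
    have hz1 : b * z * b⁻¹ ∈ Zs := hZb hzZ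
    have hz2 : b * (b * z * b⁻¹) * b⁻¹ ∈ Zs := hZb hz1
    have hz3 : b * (b * (b * z * b⁻¹) * b⁻¹) * b⁻¹ = z := by
      calc b * (b * (b * z * b⁻¹) * b⁻¹) * b⁻¹ = (b * b * b) * z * (b * b * b)⁻¹ := by group
        _ = z := by rw [hb3]; group
    have c2 : z * (b * (b * z * b⁻¹) * b⁻¹) = (b * (b * z * b⁻¹) * b⁻¹) * z := hZcomm hzZ hz2
    have e1 : q = (b * z * b⁻¹)⁻¹ * (b * (b * z * b⁻¹) * b⁻¹) := by rw [hq, hp]; group
    have e2 : s = (b * (b * z * b⁻¹) * b⁻¹)⁻¹ * z := by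
      rw [hs, e1]
      calc b * ((b * z * b⁻¹)⁻¹ * (b * (b * z * b⁻¹) * b⁻¹)) * b⁻¹
          = (b * (b * z * b⁻¹) * b⁻¹)⁻¹ * (b * (b * (b * z * b⁻¹) * b⁻¹) * b⁻¹) := by
            simp only [mul_inv_rev, inv_inv, mul_assoc, inv_mul_cancel_left]
        _ = (b * (b * z * b⁻¹) * b⁻¹)⁻¹ * z := by rw [hz3]
    rw [e1, e2, hp]
    generalize b * z * b⁻¹ = z' at *
    generalize b * z' * b⁻¹ = z'' at *
    have c2' : z''⁻¹ * z = z * z''⁻¹ := by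
      calc z''⁻¹ * z = z''⁻¹ * (z * z'') * z''⁻¹ := by group
        _ = z''⁻¹ * (z'' * z) * z''⁻¹ := by rw [c2]
        _ = z * z''⁻¹ := by group
    calc z⁻¹ * z' * (z'⁻¹ * z'') * (z''⁻¹ * z) = z⁻¹ * (z'' * (z''⁻¹ * z)) := by group
      _ = 1 := by group
  -- order of p
  have : Fact (Nat.Prime 2) := ⟨Nat.prime_two⟩
  have hpR : p ∈ R := (hZmem.1 hpZ).1
  obtain ⟨k, hk⟩ := (IsPGroup.iff_orderOf.1 hR2) ⟨p, hpR⟩
  have hk' : orderOf p = 2 ^ k := by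
    rw [← hk]
    exact (Subgroup.orderOf_mk p hpR).symm
  have hk0 : k ≠ 0 := by
    intro h0
    rw [h0, pow_zero, orderOf_eq_one_iff] at hk'
    exact hp1 hk'
  obtain ⟨j, rfl⟩ := Nat.exists_eq_succ_of_ne_zero hk0
  set n := 2 ^ j with hn
  -- u := p ^ n
  have hu2 : p ^ n * p ^ n = 1 := by
    rw [← pow_add, ← two_mul, hn, ← pow_succ', ← hk', pow_orderOf_eq_one]
  have hu1 : p ^ n ≠ 1 := by
    intro h
    have h1 := orderOf_dvd_of_pow_eq_one h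
    rw [hk', hn] at h1
    have := Nat.le_of_dvd (by positivity) h1
    rw [pow_succ] at this
    have hpos : 0 < 2 ^ j := by positivity
    omega
  have hconj_pow : ∀ y : S, b * y ^ n * b⁻¹ = (b * y * b⁻¹) ^ n := by
    intro y
    exact (conj_pow (a := b) (b := y) (i := n)).symm
  have hcpq : Commute p q := hZcomm hpZ hqZ
  have hcps : Commute p s := hZcomm hpZ hsZ
  have hcqs : Commute q s := hZcomm hqZ hsZ
  have hprod : p ^ n * q ^ n * s ^ n = 1 := by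
    rw [← hcpq.mul_pow, ← (hcps.mul_left hcqs).mul_pow, hpqs, one_pow]
  refine ⟨p ^ n, q ^ n, s ^ n, ?_, R.pow_mem hpR n, ?_⟩
  · have hq2 : q ^ n * q ^ n = 1 := by
      rw [hq, ← hconj_pow]
      calc b * p ^ n * b⁻¹ * (b * p ^ n * b⁻¹) = b * (p ^ n * p ^ n) * b⁻¹ := by group
        _ = 1 := by rw [hu2]; group
    have hs2 : s ^ n * s ^ n = 1 := by
      rw [hs, ← hconj_pow]
      calc b * q ^ n * b⁻¹ * (b * q ^ n * b⁻¹) = b * (q ^ n * q ^ n) * b⁻¹ := by group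
        _ = 1 := by rw [hq2]; group
    refine ⟨hu2, hu1, ?_, ?_, ?_, ?_, ?_⟩
    · rw [hconj_pow]
    · rw [hconj_pow]
    · rw [hconj_pow, hbs]
    · have : p ^ n * q ^ n = (s ^ n)⁻¹ := eq_inv_of_mul_eq_one_left hprod
      rw [this]
      exact inv_eq_of_mul_eq_one_right hs2
    · exact (hcpq.pow_pow n n).eq
  · intro r hr
    have := (hZmem.1 (Zs.pow_mem hpZ n)).2 r hr
    exact this

variable [Finite S] [Finite E]

/-- **Case Z1.** -/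
theorem caseZ1 (hc : Cub ρ b v₀) (hB : BAct b R) (hR2 : IsPGroup 2 ↥R) {z : S} (hzR : z ∈ R)
    (hzc : ∀ r ∈ R, z * r = r * z) (hzb : b * z * b⁻¹ ≠ z) :
    Nat.card ↥R = 4 ∧ ∀ r ∈ R, r * r = 1 := by
  obtain ⟨z₁, z₂, z₃, hf, hz1R, hz1c⟩ := exists_fourCfg_of_moved hB hR2 hzR hzc hzb
  -- z₂, z₃ are central too
  have hcen_b : ∀ {y : S}, y ∈ R → (∀ r ∈ R, y * r = r * y) →
      (b * y * b⁻¹ ∈ R ∧ ∀ r ∈ R, (b * y * b⁻¹) * r = r * (b * y * b⁻¹)) := by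
    intro y hy hyc
    refine ⟨hB.inv y hy, fun r hr => ?_⟩
    have h1 := hyc _ (hB.inv' hr)
    calc b * y * b⁻¹ * r = b * (y * (b⁻¹ * r * b)) * b⁻¹ := by group
      _ = b * (b⁻¹ * r * b * y) * b⁻¹ := by rw [h1]
      _ = r * (b * y * b⁻¹) := by group
  obtain ⟨hz2R, hz2c⟩ := hcen_b hz1R hz1c
  rw [hf.c12] at hz2R hz2c
  obtain ⟨hz3R, hz3c⟩ := hcen_b hz2R hz2c
  rw [hf.c23] at hz3R hz3c
  obtain ⟨w₁, w₂, w₃, ht⟩ := hf.exists_tri hc
  -- R preserves the weight spaces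
  have hW0 : ∀ r ∈ R, ∀ v ∈ W0 ρ z₁ z₂, ρ r v ∈ W0 ρ z₁ z₂ := by
    intro r hr v hv
    constructor
    · rw [← rho_mul_apply, hz1c r hr, rho_mul_apply, hv.1]
    · rw [← rho_mul_apply, hz2c r hr, rho_mul_apply, hv.2]
  have hW1 : ∀ r ∈ R, ∀ v ∈ W1 ρ z₁ z₂, ρ r v ∈ W1 ρ z₁ z₂ := by
    intro r hr v hv
    constructor
    · rw [← rho_mul_apply, hz1c r hr, rho_mul_apply, hv.1]
    · rw [← rho_mul_apply, hz2c r hr, rho_mul_apply, hv.2, map_neg]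
  have hW2 : ∀ r ∈ R, ∀ v ∈ W1 ρ z₂ z₃, ρ r v ∈ W1 ρ z₂ z₃ := by
    intro r hr v hv
    constructor
    · rw [← rho_mul_apply, hz2c r hr, rho_mul_apply, hv.1]
    · rw [← rho_mul_apply, hz3c r hr, rho_mul_apply, hv.2, map_neg]
  have hW3 : ∀ r ∈ R, ∀ v ∈ W1 ρ z₃ z₁, ρ r v ∈ W1 ρ z₃ z₁ := by
    intro r hr v hv
    constructor
    · rw [← rho_mul_apply, hz3c r hr, rho_mul_apply, hv.1]
    · rw [← rho_mul_apply, hz1c r hr, rho_mul_apply, hv.2, map_neg]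
  have htriv : ∀ r ∈ R, ∀ v ∈ W0 ρ z₁ z₂, ρ r v = v :=
    triv_of_comm_eq hB.gen hW0 (hf.b_triv_W0 hc)
  have hdet : ∀ r ∈ R, LinearMap.det (ρ r) = 1 := by
    intro r hr
    apply det_eq_one_of_mem_commutator ρ (H := R) (K := Subgroup.zpowers b)
    rw [hB.gen]; exact hr
  -- signs
  have hsign : ∀ r ∈ R, ∃ ε₁ ε₂ ε₃ : ZMod 3, (ε₁ = 1 ∨ ε₁ = -1) ∧ (ε₂ = 1 ∨ ε₂ = -1) ∧
      (ε₃ = 1 ∨ ε₃ = -1) ∧ ρ r w₁ = ε₁ • w₁ ∧ ρ r w₂ = ε₂ • w₂ ∧ ρ r w₃ = ε₃ • w₃ := by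
    intro r hr
    obtain ⟨ε₁, h1⟩ := ht.line1 hf hc (hW1 r hr w₁ ht.m1)
    obtain ⟨ε₂, h2⟩ := ht.line2 hf hc (hW2 r hr w₂ ht.m2)
    obtain ⟨ε₃, h3⟩ := ht.line3 hf hc (hW3 r hr w₃ ht.m3)
    have hne : ∀ {w : E} {ε : ZMod 3}, w ≠ 0 → ρ r w = ε • w → ε ≠ 0 := by
      intro w ε hw h h0
      rw [h0, zero_smul] at h
      have : ρ r w = ρ r 0 := by rw [h, map_zero]
      exact hw (rho_injective_apply ρ r this)
    exact ⟨ε₁, ε₂, ε₃, sign_cases _ (hne ht.ne1 h1), sign_cases _ (hne ht.ne2 h2),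
      sign_cases _ (hne ht.ne3 h3), h1, h2, h3⟩
  -- agreement lemma
  have hagree : ∀ g g' : S, (∀ f ∈ W0 ρ z₁ z₂, ρ g f = ρ g' f) → ρ g w₁ = ρ g' w₁ →
      ρ g w₂ = ρ g' w₂ → ρ g w₃ = ρ g' w₃ → g = g' := by
    intro g g' h0 h1 h2 h3
    apply hc.faith
    ext v
    obtain ⟨f, hf0, a₁, a₂, a₃, rfl⟩ := ht.span hf hc v
    simp only [map_add, map_smul, h0 f hf0, h1, h2, h3]
  -- the reflection cases
  have hrefl1 : ∀ g ∈ R, ρ g w₁ = -w₁ → ρ g w₂ = w₂ → ρ g w₃ = w₃ → False := by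
    intro g hg h1 h2 h3
    apply refl_false (hdet g hg) ht.ne1 h1
    intro v
    obtain ⟨f, hf0, a₁, a₂, a₃, rfl⟩ := ht.span hf hc v
    refine ⟨f + a₂ • w₂ + a₃ • w₃, ?_, a₁, by abel⟩
    simp only [map_add, map_smul, htriv g hg f hf0, h2, h3]
  have hrefl2 : ∀ g ∈ R, ρ g w₁ = w₁ → ρ g w₂ = -w₂ → ρ g w₃ = w₃ → False := by
    intro g hg h1 h2 h3
    apply refl_false (hdet g hg) ht.ne2 h2
    intro v
    obtain ⟨f, hf0, a₁, a₂, a₃, rfl⟩ := ht.span hf hc v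
    refine ⟨f + a₁ • w₁ + a₃ • w₃, ?_, a₂, by abel⟩
    simp only [map_add, map_smul, htriv g hg f hf0, h1, h3]
  have hrefl3 : ∀ g ∈ R, ρ g w₁ = w₁ → ρ g w₂ = w₂ → ρ g w₃ = -w₃ → False := by
    intro g hg h1 h2 h3
    apply refl_false (hdet g hg) ht.ne3 h3
    intro v
    obtain ⟨f, hf0, a₁, a₂, a₃, rfl⟩ := ht.span hf hc v
    refine ⟨f + a₁ • w₁ + a₂ • w₂, ?_, a₃, by abel⟩
    simp only [map_add, map_smul, htriv g hg f hf0, h1, h2]
  -- classification of elements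
  have hclass : ∀ r ∈ R, r = 1 ∨ r = z₁ ∨ r = z₂ ∨ r = z₃ := by
    intro r hr
    obtain ⟨ε₁, ε₂, ε₃, h1, h2, h3, e1, e2, e3⟩ := hsign r hr
    have t0 := htriv r hr
    rcases h1 with rfl | rfl <;> rcases h2 with rfl | rfl <;> rcases h3 with rfl | rfl <;>
      simp only [one_smul, neg_smul] at e1 e2 e3
    · left
      apply hagree
      · intro f hf0; rw [t0 f hf0, rho_one_apply]
      · rw [e1, rho_one_apply]
      · rw [e2, rho_one_apply]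
      · rw [e3, rho_one_apply]
    · exact (hrefl3 r hr e1 e2 e3).elim
    · exact (hrefl2 r hr e1 e2 e3).elim
    · right; left
      apply hagree
      · intro f hf0; rw [t0 f hf0, htriv z₁ hz1R f hf0]
      · rw [e1, ht.z1w1]
      · rw [e2, ht.z1w2 hf]
      · rw [e3, ht.z1w3]
    · exact (hrefl1 r hr e1 e2 e3).elim
    · right; right; left
      apply hagree
      · intro f hf0; rw [t0 f hf0, htriv z₂ hz2R f hf0]
      · rw [e1, ht.z2w1]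
      · rw [e2, ht.z2w2]
      · rw [e3, ht.z2w3 hf]
    · right; right; right
      apply hagree
      · intro f hf0; rw [t0 f hf0, htriv z₃ hz3R f hf0]
      · rw [e1, ht.z3w1 hf]
      · rw [e2, ht.z3w2]
      · rw [e3, ht.z3w3]
    · exfalso
      apply hrefl1 (r * z₁) (R.mul_mem hr hz1R)
      · rw [rho_mul_apply, ht.z1w1, e1]
      · rw [rho_mul_apply, ht.z1w2 hf, map_neg, e2, neg_neg]
      · rw [rho_mul_apply, ht.z1w3, map_neg, e3, neg_neg]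
  have hset : (R : Set S) = {1, z₁, z₂, z₃} := by
    ext r
    simp only [SetLike.mem_coe, Set.mem_insert_iff, Set.mem_singleton_iff]
    constructor
    · exact hclass r
    · rintro (rfl | rfl | rfl | rfl)
      · exact R.one_mem
      · exact hz1R
      · exact hz2R
      · exact hz3R
  constructor
  · have h1 : Nat.card ↥R = (R : Set S).ncard := by
      rw [← Nat.card_coe_set_eq]
      rfl
    rw [h1, hset]
    have hf1 : (1 : S) ∉ ({z₁, z₂, z₃} : Set S) := by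
      simp only [Set.mem_insert_iff, Set.mem_singleton_iff, not_or]
      exact ⟨hf.ne.symm, hf.ne2.symm, hf.ne3.symm⟩
    have hf2 : z₁ ∉ ({z₂, z₃} : Set S) := by
      simp only [Set.mem_insert_iff, Set.mem_singleton_iff, not_or]
      exact ⟨hf.ne12, hf.ne13⟩
    rw [Set.ncard_insert_of_notMem hf1, Set.ncard_insert_of_notMem hf2, Set.ncard_pair hf.ne23]
  · intro r hr
    rcases hclass r hr with rfl | rfl | rfl | rfl
    · rw [mul_one]
    · exact hf.sq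
    · exact hf.sq2
    · exact hf.sq3

end Cfsg.Agent.Helper9.HH3
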