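import Cfsg.Agent.Helper9.HH3.Cubic

/-!
# A four-group normalized and not centralized by the cubic element `b`

Weight decomposition: three weight lines permuted by `b`, and `b` is trivial on the fixed space.
-/

set_option autoImplicit false

namespace Cfsg.Agent.Helper9.HH3

variable {S : Type*} [Group S] {E : Type*} [AddCommGroup E] [Module (ZMod 3) E]
variable {ρ : Representation (ZMod 3) S E}

/-- `{1, z₁, z₂, z₃}` is a four-group whose involutions are permuted cyclically by `b`. -/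
structure FourCfg (b z₁ z₂ z₃ : S) : Prop where
  sq : z₁ * z₁ = 1
  ne : z₁ ≠ 1
  c12 : b * z₁ * b⁻¹ = z₂
  c23 : b * z₂ * b⁻¹ = z₃
  c31 : b * z₃ * b⁻¹ = z₁
  mul12 : z₁ * z₂ = z₃
  comm : z₁ * z₂ = z₂ * z₁

namespace FourCfg

variable {b z₁ z₂ z₃ : S} (hf : FourCfg b z₁ z₂ z₃)
include hf

theorem sq2 : z₂ * z₂ = 1 := by
  rw [← hf.c12]
  calc b * z₁ * b⁻¹ * (b * z₁ * b⁻¹) = b * (z₁ * z₁) * b⁻¹ := by group
    _ = 1 := by rw [hf.sq]; group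

theorem sq3 : z₃ * z₃ = 1 := by
  rw [← hf.c23]
  calc b * z₂ * b⁻¹ * (b * z₂ * b⁻¹) = b * (z₂ * z₂) * b⁻¹ := by group
    _ = 1 := by rw [hf.sq2]; group

theorem mul21 : z₂ * z₁ = z₃ := by rw [← hf.comm, hf.mul12]

theorem mul13 : z₁ * z₃ = z₂ := by
  rw [← hf.mul12, ← mul_assoc, hf.sq, one_mul]

theorem mul31 : z₃ * z₁ = z₂ := by
  rw [← hf.mul21, mul_assoc, hf.sq, mul_one]

theorem mul23 : z₂ * z₃ = z₁ := by
  rw [← hf.mul21, ← mul_assoc, hf.sq2, one_mul]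

theorem mul32 : z₃ * z₂ = z₁ := by
  rw [← hf.mul12, mul_assoc, hf.sq2, mul_one]

theorem ne2 : z₂ ≠ 1 := by
  intro h
  apply hf.ne
  have := hf.c12
  rw [h] at this
  have h1 : z₁ = b⁻¹ * 1 * b := by rw [← this]; group
  rw [h1]; group

theorem ne3 : z₃ ≠ 1 := by
  intro h
  apply hf.ne2
  have := hf.c23
  rw [h] at this
  have h1 : z₂ = b⁻¹ * 1 * b := by rw [← this]; group
  rw [h1]; group

theorem ne12 : z₁ ≠ z₂ := by
  intro h
  apply hf.ne3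
  rw [← hf.mul12, ← h, hf.sq]

theorem ne13 : z₁ ≠ z₃ := by
  intro h
  apply hf.ne2
  rw [← hf.mul13, ← h, hf.sq]

theorem ne23 : z₂ ≠ z₃ := by
  intro h
  apply hf.ne
  rw [← hf.mul23, ← h, hf.sq2]

/-- The conjugated configuration. -/
theorem shift : FourCfg b z₂ z₃ z₁ where
  sq := hf.sq2
  ne := hf.ne2
  c12 := hf.c23
  c23 := hf.c31
  c31 := hf.c12
  mul12 := hf.mul23
  comm := by rw [hf.mul23, hf.mul32]

theorem binv1 : b⁻¹ * z₁ * b = z₃ := by rw [← hf.c31]; group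
theorem binv2 : b⁻¹ * z₂ * b = z₁ := by rw [← hf.c12]; group
theorem binv3 : b⁻¹ * z₃ * b = z₂ := by rw [← hf.c23]; group

/-! ### the action on the module -/

theorem rho_sq1 (v : E) : ρ z₁ (ρ z₁ v) = v := by
  rw [← rho_mul_apply, hf.sq, rho_one_apply]

theorem rho_sq2 (v : E) : ρ z₂ (ρ z₂ v) = v := by
  rw [← rho_mul_apply, hf.sq2, rho_one_apply]

theorem rho_sq3 (v : E) : ρ z₃ (ρ z₃ v) = v := by
  rw [← rho_mul_apply, hf.sq3, rho_one_apply]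

theorem rho12 (v : E) : ρ z₁ (ρ z₂ v) = ρ z₃ v := by rw [← rho_mul_apply, hf.mul12]
theorem rho21 (v : E) : ρ z₂ (ρ z₁ v) = ρ z₃ v := by rw [← rho_mul_apply, hf.mul21]
theorem rho13 (v : E) : ρ z₁ (ρ z₃ v) = ρ z₂ v := by rw [← rho_mul_apply, hf.mul13]
theorem rho31 (v : E) : ρ z₃ (ρ z₁ v) = ρ z₂ v := by rw [← rho_mul_apply, hf.mul31]
theorem rho23 (v : E) : ρ z₂ (ρ z₃ v) = ρ z₁ v := by rw [← rho_mul_apply, hf.mul23]
theorem rho32 (v : E) : ρ z₃ (ρ z₂ v) = ρ z₁ v := by rw [← rho_mul_apply, hf.mul32]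

/-- `z₂ b = b z₁` on the module. -/
theorem rho_z2_b (v : E) : ρ z₂ (ρ b v) = ρ b (ρ z₁ v) := by
  rw [← rho_mul_apply, ← rho_mul_apply]
  congr 2
  rw [← hf.c12]; group

theorem rho_z3_b (v : E) : ρ z₃ (ρ b v) = ρ b (ρ z₂ v) := by
  rw [← rho_mul_apply, ← rho_mul_apply]
  congr 2
  rw [← hf.c23]; group

theorem rho_z1_b (v : E) : ρ z₁ (ρ b v) = ρ b (ρ z₃ v) := by
  rw [← rho_mul_apply, ← rho_mul_apply]
  congr 2
  rw [← hf.c31]; group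

end FourCfg

/-- The weight line `L₁`: `z₁ = 1`, `z₂ = z₃ = -1`. -/
def IsW1 (ρ : Representation (ZMod 3) S E) (z₁ z₂ : S) (v : E) : Prop :=
  ρ z₁ v = v ∧ ρ z₂ v = -v

/-- The fixed vectors. -/
def IsW0 (ρ : Representation (ZMod 3) S E) (z₁ z₂ : S) (v : E) : Prop :=
  ρ z₁ v = v ∧ ρ z₂ v = v

namespace FourCfg

variable {b z₁ z₂ z₃ : S} (hf : FourCfg b z₁ z₂ z₃)
include hf

theorem isW1_z3 {v : E} (hv : IsW1 ρ z₁ z₂ v) : ρ z₃ v = -v := by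
  rw [← hf.rho12, hv.2, map_neg, hv.1]

theorem isW0_z3 {v : E} (hv : IsW0 ρ z₁ z₂ v) : ρ z₃ v = v := by
  rw [← hf.rho12, hv.2, hv.1]

/-- `b` maps `L₁` (for `z₁, z₂`) to `L₁` for the shifted configuration `z₂, z₃`. -/
theorem isW1_b {v : E} (hv : IsW1 ρ z₁ z₂ v) : IsW1 ρ z₂ z₃ (ρ b v) := by
  constructor
  · rw [hf.rho_z2_b, hv.1]
  · rw [hf.rho_z3_b, hv.2, map_neg]

theorem isW0_b {v : E} (hv : IsW0 ρ z₁ z₂ v) : IsW0 ρ z₂ z₃ (ρ b v) := by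
  constructor
  · rw [hf.rho_z2_b, hv.1]
  · rw [hf.rho_z3_b, hv.2]

/-- The projection to `L₁`. -/
theorem isW1_proj (v : E) : IsW1 ρ z₁ z₂ (v + ρ z₁ v - ρ z₂ v - ρ z₃ v) := by
  constructor
  · simp only [map_add, map_sub]
    rw [hf.rho_sq1, hf.rho12, hf.rho13]
    abel
  · simp only [map_add, map_sub]
    rw [hf.rho_sq2, hf.rho21, hf.rho23]
    abel

theorem isW0_proj (v : E) : IsW0 ρ z₁ z₂ (v + ρ z₁ v + ρ z₂ v + ρ z₃ v) := by
  constructor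
  · simp only [map_add]
    rw [hf.rho_sq1, hf.rho12, hf.rho13]
    abel
  · simp only [map_add]
    rw [hf.rho_sq2, hf.rho21, hf.rho23]
    abel

omit hf in
theorem four_smul_eq (v : E) : v + v + v + v = v := by
  rw [add_add_self_eq_zero, zero_add]

omit hf in
/-- Decomposition `v = e₀ v + e₁ v + e₂ v + e₃ v`. -/
theorem decomp (v : E) :
    v = (v + ρ z₁ v + ρ z₂ v + ρ z₃ v) + (v + ρ z₁ v - ρ z₂ v - ρ z₃ v) +
      (v + ρ z₂ v - ρ z₃ v - ρ z₁ v) + (v + ρ z₃ v - ρ z₁ v - ρ z₂ v) := by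
  have := four_smul_eq v
  have e : (v + ρ z₁ v + ρ z₂ v + ρ z₃ v) + (v + ρ z₁ v - ρ z₂ v - ρ z₃ v) +
      (v + ρ z₂ v - ρ z₃ v - ρ z₁ v) + (v + ρ z₃ v - ρ z₁ v - ρ z₂ v) = v + v + v + v := by
    abel
  rw [e, this]

end FourCfg

end Cfsg.Agent.Helper9.HH3
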