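import Cfsg.Agent.Helper9.HH3.IndZ2
import Cfsg.Agent.Helper9.HH3.Four

/-!
# Case Z2a, group-theoretic front: a four-group inside the second centre
-/

set_option autoImplicit false

namespace Cfsg.Agent.Helper9.HH3

variable {S : Type*} [Group S] {b : S} {R : Subgroup S} {c : S}

/-- If `x ∈ Z₂(R) ∖ Z(R)` commutes with `x^b`, then `x⁻¹ x^b` generates under `b` a four-group
inside `Z₂(R)` which is not central. -/
theorem exists_fourCfg_of_isZ2 (hB : BAct b R) (hc : CenInv b R c) {x : S} (hx : IsZ2 R c x)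
    (hx1 : x ≠ 1) (hxc : x ≠ c) (hcomm : x * (b * x * b⁻¹) = (b * x * b⁻¹) * x) :
    ∃ z₁ z₂ z₃, FourCfg b z₁ z₂ z₃ ∧ IsZ2 R c z₁ ∧ IsZ2 R c z₂ ∧ IsZ2 R c z₃ ∧
      ¬ (∀ r ∈ R, z₁ * r = r * z₁) := by
  have hb3 : b * b * b = 1 := by rw [← hB.b3, pow_succ, pow_two]
  -- x is not central
  have hxnc : ¬ (∀ r ∈ R, x * r = r * x) := by
    intro h
    rcases hc.uniq x hx.1 h with h1 | h1
    · exact hx1 h1
    · exact hxc h1
  set y : S := b * x * b⁻¹ with hy
  set w : S := b * y * b⁻¹ with hw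
  have hbw : b * w * b⁻¹ = x := by
    rw [hw, hy]
    calc b * (b * (b * x * b⁻¹) * b⁻¹) * b⁻¹ = (b * b * b) * x * (b * b * b)⁻¹ := by group
      _ = x := by rw [hb3]; group
  have hyZ : IsZ2 R c y := isZ2_conj_b hB hc hx
  have hwZ : IsZ2 R c w := isZ2_conj_b hB hc hyZ
  have cxy : Commute x y := hcomm
  have cyw : Commute y w := by
    show y * w = w * y
    rw [hw, hy]
    calc b * x * b⁻¹ * (b * (b * x * b⁻¹) * b⁻¹) = b * (x * (b * x * b⁻¹)) * b⁻¹ := by group
      _ = b * ((b * x * b⁻¹) * x) * b⁻¹ := by rw [hcomm]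
      _ = b * (b * x * b⁻¹) * b⁻¹ * (b * x * b⁻¹) := by group
  have cwx : Commute w x := by
    show w * x = x * w
    have h1 : y * w = w * y := cyw
    calc w * x = w * (b * w * b⁻¹) := by rw [hbw]
      _ = b * (y * w) * b⁻¹ := by rw [hw]; group
      _ = b * (w * y) * b⁻¹ := by rw [h1]
      _ = (b * w * b⁻¹) * w := by rw [hw]; group
      _ = x * w := by rw [hbw]
  -- squares
  have hxx := hc.isZ2_sq hx
  have hyy : y * y = x * x := by
    have h1 := hc.z_fix hxx
    calc y * y = b * (x * x) * b⁻¹ := by rw [hy]; group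
      _ = (x * x) * b * b⁻¹ := by rw [h1]
      _ = x * x := by group
  have hww : w * w = x * x := by
    have h1 := hc.z_fix hxx
    calc w * w = b * (y * y) * b⁻¹ := by rw [hw]; group
      _ = b * (x * x) * b⁻¹ := by rw [hyy]
      _ = (x * x) * b * b⁻¹ := by rw [h1]
      _ = x * x := by group
  refine ⟨x⁻¹ * y, y⁻¹ * w, w⁻¹ * x, ⟨?_, ?_, ?_, ?_, ?_, ?_, ?_⟩, hc.isZ2_mul (hc.isZ2_inv hx) hyZ,
    hc.isZ2_mul (hc.isZ2_inv hyZ) hwZ, hc.isZ2_mul (hc.isZ2_inv hwZ) hx, ?_⟩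
  · -- sq
    have h1 : y * x⁻¹ = x⁻¹ * y := (cxy.symm.inv_right).eq
    calc x⁻¹ * y * (x⁻¹ * y) = x⁻¹ * (y * x⁻¹) * y := by group
      _ = x⁻¹ * (x⁻¹ * y) * y := by rw [h1]
      _ = (x * x)⁻¹ * (y * y) := by group
      _ = 1 := by rw [hyy]; group
  · -- ne
    intro h
    have hyx : b * x * b⁻¹ = x * 1 := by
      rw [mul_one]
      calc b * x * b⁻¹ = x * (x⁻¹ * y) := by rw [hy]; group
        _ = x := by rw [h, mul_one]
    exact hxnc (central_of_conj hB hc hx (Subgroup.one_mem _) hyx)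
  · -- c12
    rw [hw, hy]; group
  · -- c23
    calc b * (y⁻¹ * w) * b⁻¹ = (b * y * b⁻¹)⁻¹ * (b * w * b⁻¹) := by group
      _ = w⁻¹ * x := by rw [hbw]
  · -- c31
    calc b * (w⁻¹ * x) * b⁻¹ = (b * w * b⁻¹)⁻¹ * (b * x * b⁻¹) := by group
      _ = x⁻¹ * y := by rw [hbw]
  · -- mul12
    have h1 : w * x⁻¹ = x⁻¹ * w := (cwx.inv_right).eq
    have h2 : x⁻¹ * w = w⁻¹ * x := by
      have : w * (x⁻¹ * w) = x := by
        calc w * (x⁻¹ * w) = (w * x⁻¹) * w := by group
          _ = x⁻¹ * w * w := by rw [h1]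
          _ = x⁻¹ * (w * w) := by group
          _ = x := by rw [hww]; group
      calc x⁻¹ * w = w⁻¹ * (w * (x⁻¹ * w)) := by group
        _ = w⁻¹ * x := by rw [this]
    calc x⁻¹ * y * (y⁻¹ * w) = x⁻¹ * w := by group
      _ = w⁻¹ * x := h2
  · -- comm
    have h1 : Commute (x⁻¹ * y) (y⁻¹ * w) := by
      apply Commute.mul_left
      · apply Commute.mul_right
        · exact cxy.inv_left.inv_right
        · exact cwx.symm.inv_left
      · apply Commute.mul_right
        · exact (Commute.refl y).inv_right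
        · exact cyw
    exact h1.eq
  · -- not central
    intro h
    rcases hc.uniq _ (R.mul_mem (R.inv_mem hx.1) hyZ.1) h with h1 | h1
    · have hyx : b * x * b⁻¹ = x * 1 := by
        rw [mul_one]
        calc b * x * b⁻¹ = x * (x⁻¹ * y) := by rw [hy]; group
          _ = x := by rw [h1, mul_one]
      exact hxnc (central_of_conj hB hc hx (Subgroup.one_mem _) hyx)
    · have hyx : b * x * b⁻¹ = x * c := by
        calc b * x * b⁻¹ = x * (x⁻¹ * y) := by rw [hy]; group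
          _ = x * c := by rw [h1]
      exact hxnc (central_of_conj hB hc hx (Subgroup.mem_zpowers c) hyx)

end Cfsg.Agent.Helper9.HH3
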