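import Cfsg.Agent.Helper9.HH3.Four3
import Cfsg.Agent.Helper9.HH3.NoRefl

/-!
# Weight frames for a four-group, and the reflection test
-/

set_option autoImplicit false

namespace Cfsg.Agent.Helper9.HH3

variable {S : Type*} [Group S] {E : Type*} [AddCommGroup E] [Module (ZMod 3) E]
variable {ρ : Representation (ZMod 3) S E}

theorem sign_cases : ∀ κ : ZMod 3, κ ≠ 0 → κ = 1 ∨ κ = -1 := by decide

theorem neg_ne_self {w : E} (hw : w ≠ 0) : -w ≠ w := by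
  intro h
  exact hw (eq_zero_of_eq_neg h.symm)

/-- **Reflection test**: an element of determinant one cannot negate `w` and fix a
complement of `w` pointwise. -/
theorem refl_false [Finite E] {g : S} (hdet : LinearMap.det (ρ g) = 1) {w : E} (hw0 : w ≠ 0)
    (hw : ρ g w = -w) (hsp : ∀ v, ∃ m, ρ g m = m ∧ ∃ a : ZMod 3, v = m + a • w) : False := by
  apply not_reflection ρ hdet hw0 hw
  intro v
  obtain ⟨m, hm, a, rfl⟩ := hsp v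
  refine ⟨-a - a, ?_⟩
  rw [map_add, map_smul, hm, hw, sub_smul, neg_smul, smul_neg]
  abel

/-- A weight frame for the four-group `{1, z₁, z₂, z₃}` permuted by `b`. -/
structure Tri (ρ : Representation (ZMod 3) S E) (b z₁ z₂ z₃ : S) (w₁ w₂ w₃ : E) : Prop where
  ne1 : w₁ ≠ 0
  m1 : w₁ ∈ W1 ρ z₁ z₂
  m2 : w₂ ∈ W1 ρ z₂ z₃
  m3 : w₃ ∈ W1 ρ z₃ z₁
  b1 : ρ b w₁ = w₂
  b2 : ρ b w₂ = w₃
  b3 : ρ b w₃ = w₁

namespace FourCfg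

variable {b z₁ z₂ z₃ : S} (hf : FourCfg b z₁ z₂ z₃) {v₀ : E} (h : Cub ρ b v₀)
include hf h

theorem exists_tri : ∃ w₁ w₂ w₃ : E, Tri ρ b z₁ z₂ z₃ w₁ w₂ w₃ := by
  obtain ⟨w, hw0, hw⟩ := hf.exists_w1 h
  refine ⟨w, ρ b w, ρ b (ρ b w), hw0, hw, hf.isW1_b hw, hf.shift.isW1_b (hf.isW1_b hw), rfl, rfl,
    h.rho_b3 w⟩

end FourCfg

namespace Tri

variable {b z₁ z₂ z₃ : S} {w₁ w₂ w₃ : E} (ht : Tri ρ b z₁ z₂ z₃ w₁ w₂ w₃)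
include ht

theorem ne2 : w₂ ≠ 0 := by
  intro h0
  apply ht.ne1
  have : ρ b w₁ = ρ b 0 := by rw [ht.b1, h0, map_zero]
  exact rho_injective_apply ρ b this

theorem ne3 : w₃ ≠ 0 := by
  intro h0
  apply ht.ne2
  have : ρ b w₂ = ρ b 0 := by rw [ht.b2, h0, map_zero]
  exact rho_injective_apply ρ b this

theorem z1w1 : ρ z₁ w₁ = w₁ := ht.m1.1
theorem z2w1 : ρ z₂ w₁ = -w₁ := ht.m1.2
theorem z2w2 : ρ z₂ w₂ = w₂ := ht.m2.1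
theorem z3w2 : ρ z₃ w₂ = -w₂ := ht.m2.2
theorem z3w3 : ρ z₃ w₃ = w₃ := ht.m3.1
theorem z1w3 : ρ z₁ w₃ = -w₃ := ht.m3.2

variable (hf : FourCfg b z₁ z₂ z₃)
include hf

theorem z3w1 : ρ z₃ w₁ = -w₁ := hf.isW1_z3 ht.m1
theorem z1w2 : ρ z₁ w₂ = -w₂ := hf.shift.isW1_z3 ht.m2
theorem z2w3 : ρ z₂ w₃ = -w₃ := hf.shift.shift.isW1_z3 ht.m3

variable {v₀ : E} (h : Cub ρ b v₀)
include h

theorem line1 {x : E} (hx : x ∈ W1 ρ z₁ z₂) : ∃ α : ZMod 3, x = α • w₁ :=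
  hf.w1_span h ht.ne1 ht.m1 hx

theorem line2 {x : E} (hx : x ∈ W1 ρ z₂ z₃) : ∃ α : ZMod 3, x = α • w₂ :=
  hf.shift.w1_span h ht.ne2 ht.m2 hx

theorem line3 {x : E} (hx : x ∈ W1 ρ z₃ z₁) : ∃ α : ZMod 3, x = α • w₃ :=
  hf.shift.shift.w1_span h ht.ne3 ht.m3 hx

/-- `E = C_E(Q) + ⟨w₁, w₂, w₃⟩`. -/
theorem span (v : E) : ∃ f ∈ W0 ρ z₁ z₂, ∃ a₁ a₂ a₃ : ZMod 3,
    v = f + a₁ • w₁ + a₂ • w₂ + a₃ • w₃ := by
  have hv : v ∈ W0 ρ z₁ z₂ ⊔ hf.U ρ := by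
    rw [hf.isCompl_W0_U.sup_eq_top]; exact Submodule.mem_top
  obtain ⟨f, hf0, u, hu, rfl⟩ := Submodule.mem_sup.1 hv
  obtain ⟨u₁, hu₁, u₂, hu₂, u₃, hu₃, rfl⟩ := hf.mem_U_iff.1 hu
  obtain ⟨a₁, rfl⟩ := ht.line1 hf h hu₁
  obtain ⟨a₂, rfl⟩ := ht.line2 hf h hu₂
  obtain ⟨a₃, rfl⟩ := ht.line3 hf h hu₃
  exact ⟨f, hf0, a₁, a₂, a₃, by abel⟩

end Tri

end Cfsg.Agent.Helper9.HH3
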