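import Cfsg.Agent.Helper9.HH3.CaseZ2a1
import Cfsg.Agent.Helper9.HH3.CaseZ2
import Cfsg.Agent.Helper9.HH3.Diag

/-!
# Case Z2a: the monomial frame
-/

set_option autoImplicit false

namespace Cfsg.Agent.Helper9.HH3

variable {S : Type*} [Group S] {E : Type*} [AddCommGroup E] [Module (ZMod 3) E]
variable {ρ : Representation (ZMod 3) S E} {b : S} {v₀ : E} {R : Subgroup S} {c : S}

/-- The four weight lines of `[E, R]` for the four-group `⟨z₁, z₂⟩`. -/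
structure Frame (ρ : Representation (ZMod 3) S E) (b : S) (R : Subgroup S) (z₁ z₂ : S)
    (w₀ w₁ w₂ w₃ : E) : Prop where
  ne0 : w₀ ≠ 0
  ne1 : w₁ ≠ 0
  ne2 : w₂ ≠ 0
  ne3 : w₃ ≠ 0
  mem0 : w₀ ∈ commE ρ R
  mem1 : w₁ ∈ commE ρ R
  mem2 : w₂ ∈ commE ρ R
  mem3 : w₃ ∈ commE ρ R
  span : ∀ v, ∃ f ∈ fixE ρ R, ∃ a₀ a₁ a₂ a₃ : ZMod 3,
    v = f + a₀ • w₀ + a₁ • w₁ + a₂ • w₂ + a₃ • w₃
  z1_0 : ρ z₁ w₀ = w₀
  z1_1 : ρ z₁ w₁ = w₁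
  z1_2 : ρ z₁ w₂ = -w₂
  z1_3 : ρ z₁ w₃ = -w₃
  z2_0 : ρ z₂ w₀ = w₀
  z2_1 : ρ z₂ w₁ = -w₁
  z2_2 : ρ z₂ w₂ = w₂
  z2_3 : ρ z₂ w₃ = -w₃
  line0 : ∀ v ∈ commE ρ R, ρ z₁ v = v → ρ z₂ v = v → ∃ a : ZMod 3, v = a • w₀
  line1 : ∀ v, ρ z₁ v = v → ρ z₂ v = -v → ∃ a : ZMod 3, v = a • w₁
  line2 : ∀ v, ρ z₁ v = -v → ρ z₂ v = v → ∃ a : ZMod 3, v = a • w₂
  line3 : ∀ v, ρ z₁ v = -v → ρ z₂ v = -v → ∃ a : ZMod 3, v = a • w₃
  b0 : ρ b w₀ = w₀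
  b1 : ρ b w₁ = w₂
  b2 : ρ b w₂ = w₃
  b3 : ρ b w₃ = w₁

/-- commuting elements: weights are preserved -/
theorem rho_comm {z r : S} (h : z * r = r * z) (v : E) : ρ z (ρ r v) = ρ r (ρ z v) := by
  rw [← rho_mul_apply, h, rho_mul_apply]

/-- anticommuting elements (modulo `c = -1`): weights are negated -/
theorem rho_anti {z r : S} (h : z * r = r * z * c) {v : E} (hcv : ρ c v = -v) :
    ρ z (ρ r v) = -ρ r (ρ z v) := by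
  rw [← rho_mul_apply, h, rho_mul_apply, rho_mul_apply, hcv, map_neg, map_neg]

section types

variable (hcen : CenInv b R c)
include hcen

omit hcen in
theorem comm_inv {z r : S} (h : z * r = r * z) : z * r⁻¹ = r⁻¹ * z := by
  calc z * r⁻¹ = r⁻¹ * (r * z) * r⁻¹ := by group
    _ = r⁻¹ * (z * r) * r⁻¹ := by rw [h]
    _ = r⁻¹ * z := by group

theorem anti_inv {z r : S} (hr : r ∈ R) (h : z * r = r * z * c) : z * r⁻¹ = r⁻¹ * z * c := by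
  have e1 : c * r⁻¹ = r⁻¹ * c := hcen.comm _ (R.inv_mem hr)
  have e2 : r * z = z * r * c := by rw [h, mul_assoc, hcen.sq, mul_one]
  calc z * r⁻¹ = r⁻¹ * (r * z) * r⁻¹ := by group
    _ = r⁻¹ * (z * r * c) * r⁻¹ := by rw [e2]
    _ = r⁻¹ * z * r * (c * r⁻¹) := by group
    _ = r⁻¹ * z * r * (r⁻¹ * c) := by rw [e1]
    _ = r⁻¹ * z * c := by group

end types

variable [Finite S]

/-- **Construction of the frame.** -/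
theorem exists_frame (hc : Cub ρ b v₀) (hcen : CenInv b R c)
    (hR2 : IsPGroup 2 ↥R) (hneg : ∀ v ∈ commE ρ R, ρ c v = -v)
    {z₁ z₂ z₃ : S} (hf : FourCfg b z₁ z₂ z₃) (hz1 : z₁ ∈ R) (hz2 : z₂ ∈ R) (hz3 : z₃ ∈ R)
    {r₀ : S} (hr₀ : r₀ ∈ R) (h1 : z₁ * r₀ = r₀ * z₁) (h2 : z₂ * r₀ = r₀ * z₂ * c) :
    ∃ w₀ w₁ w₂ w₃ : E, Frame ρ b R z₁ z₂ w₀ w₁ w₂ w₃ ∧ w₀ = ρ r₀ w₁ := by
  obtain ⟨w₁, w₂, w₃, ht⟩ := hf.exists_tri hc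
  have hR3 : ¬ 3 ∣ Nat.card ↥R := not_three_dvd_of_le hR2 le_rfl
  have hchar : ∀ w : E, -w - w = w := by
    intro w
    have := add_add_self_eq_zero w
    have e : -w - w = w - (w + w + w) := by abel
    rw [e, this, sub_zero]
  have hm1 : w₁ ∈ commE ρ R := by
    have := sub_mem_commE ρ hz2 w₁
    rwa [ht.z2w1, hchar] at this
  have hm2 : w₂ ∈ commE ρ R := by
    have := sub_mem_commE ρ hz3 w₂
    rwa [ht.z3w2, hchar] at this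
  have hm3 : w₃ ∈ commE ρ R := by
    have := sub_mem_commE ρ hz1 w₃
    rwa [ht.z1w3, hchar] at this
  set w₀ : E := ρ r₀ w₁ with hw₀
  have hm0 : w₀ ∈ commE ρ R := commE_self_invariant ρ hr₀ hm1
  have hne0 : w₀ ≠ 0 := by
    intro h0
    have : ρ r₀ w₁ = ρ r₀ 0 := by rw [← hw₀, h0, map_zero]
    exact ht.ne1 (rho_injective_apply ρ r₀ this)
  have hz10 : ρ z₁ w₀ = w₀ := by rw [hw₀, rho_comm h1, ht.z1w1]
  have hz20 : ρ z₂ w₀ = w₀ := by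
    rw [hw₀, rho_anti h2 (hneg w₁ hm1), ht.z2w1, map_neg, neg_neg]
  have hW0 : w₀ ∈ W0 ρ z₁ z₂ := ⟨hz10, hz20⟩
  have hline0 : ∀ v ∈ commE ρ R, ρ z₁ v = v → ρ z₂ v = v → ∃ a : ZMod 3, v = a • w₀ := by
    intro v hv hv1 hv2
    have hu : ρ r₀⁻¹ v ∈ W1 ρ z₁ z₂ := by
      constructor
      · rw [rho_comm (comm_inv h1), hv1]
      · rw [rho_anti (anti_inv hcen hr₀ h2) (hneg v hv), hv2]
    obtain ⟨a, ha⟩ := ht.line1 hf hc hu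
    refine ⟨a, ?_⟩
    calc v = ρ r₀ (ρ r₀⁻¹ v) := (rho_apply_inv ρ r₀ v).symm
      _ = a • w₀ := by rw [ha, map_smul]
  refine ⟨w₀, w₁, w₂, w₃, ⟨hne0, ht.ne1, ht.ne2, ht.ne3, hm0, hm1, hm2, hm3, ?_, hz10, ht.z1w1,
    ht.z1w2 hf, ht.z1w3, hz20, ht.z2w1, ht.z2w2, ht.z2w3 hf, hline0, ?_, ?_, ?_,
    hf.b_triv_W0 hc w₀ hW0, ht.b1, ht.b2, ht.b3⟩, rfl⟩
  · -- span
    intro v
    obtain ⟨f, hf1, m, hm, rfl⟩ := exists_decomp ρ R hR3 v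
    obtain ⟨g, hg, a₁, a₂, a₃, hga⟩ := ht.span hf hc m
    have hgm : g ∈ commE ρ R := by
      have : g = m - (a₁ • w₁ + a₂ • w₂ + a₃ • w₃) := by rw [hga]; abel
      rw [this]
      exact Submodule.sub_mem _ hm (Submodule.add_mem _ (Submodule.add_mem _
        (Submodule.smul_mem _ _ hm1) (Submodule.smul_mem _ _ hm2)) (Submodule.smul_mem _ _ hm3))
    obtain ⟨a₀, ha₀⟩ := hline0 g hgm hg.1 hg.2
    refine ⟨f, hf1, a₀, a₁, a₂, a₃, ?_⟩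
    rw [hga, ha₀]
    abel
  · intro v hv1 hv2
    exact ht.line1 hf hc ⟨hv1, hv2⟩
  · intro v hv1 hv2
    apply ht.line2 hf hc
    refine ⟨hv2, ?_⟩
    rw [← hf.rho12, hv2, hv1]
  · intro v hv1 hv2
    apply ht.line3 hf hc
    refine ⟨?_, hv1⟩
    rw [← hf.rho12, hv2, map_neg, hv1, neg_neg]

end Cfsg.Agent.Helper9.HH3
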