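import Cfsg.Agent.Helper9.HH3.CaseZ2a2

/-!
# Case Z2a: diagonal and monomial elements with respect to the frame
-/

set_option autoImplicit false

namespace Cfsg.Agent.Helper9.HH3

variable {S : Type*} [Group S] {E : Type*} [AddCommGroup E] [Module (ZMod 3) E]
variable {ρ : Representation (ZMod 3) S E} {b : S} {v₀ : E} {R : Subgroup S} {c : S}

theorem smul_ne_zero_of_map {r : S} {w u : E} {a : ZMod 3} (hw : w ≠ 0) (h : ρ r w = a • u) :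
    a ≠ 0 := by
  intro h0
  rw [h0, zero_smul] at h
  have : ρ r w = ρ r 0 := by rw [h, map_zero]
  exact hw (rho_injective_apply ρ r this)

namespace Frame

variable {z₁ z₂ : S} {w₀ w₁ w₂ w₃ : E} (hfr : Frame ρ b R z₁ z₂ w₀ w₁ w₂ w₃)
include hfr

/-- Two elements of `R` agreeing on the frame are equal. -/
theorem agree (hρ : Function.Injective ρ) {g g' : S} (hg : g ∈ R) (hg' : g' ∈ R)
    (h0 : ρ g w₀ = ρ g' w₀) (h1 : ρ g w₁ = ρ g' w₁) (h2 : ρ g w₂ = ρ g' w₂)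
    (h3 : ρ g w₃ = ρ g' w₃) : g = g' := by
  apply hρ
  ext v
  obtain ⟨f, hf, a₀, a₁, a₂, a₃, rfl⟩ := hfr.span v
  simp only [map_add, map_smul, hf g hg, hf g' hg', h0, h1, h2, h3]

/-- Elements centralizing `z₁, z₂` are diagonal. -/
theorem diag_of_comm {k : S} (hk : k ∈ R) (h1 : z₁ * k = k * z₁) (h2 : z₂ * k = k * z₂) :
    ∃ κ₀ κ₁ κ₂ κ₃ : ZMod 3, (κ₀ = 1 ∨ κ₀ = -1) ∧ (κ₁ = 1 ∨ κ₁ = -1) ∧ (κ₂ = 1 ∨ κ₂ = -1) ∧
      (κ₃ = 1 ∨ κ₃ = -1) ∧ ρ k w₀ = κ₀ • w₀ ∧ ρ k w₁ = κ₁ • w₁ ∧ ρ k w₂ = κ₂ • w₂ ∧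
      ρ k w₃ = κ₃ • w₃ := by
  obtain ⟨κ₀, e0⟩ := hfr.line0 (ρ k w₀) (commE_self_invariant ρ hk hfr.mem0)
    (by rw [rho_comm h1, hfr.z1_0]) (by rw [rho_comm h2, hfr.z2_0])
  obtain ⟨κ₁, e1⟩ := hfr.line1 (ρ k w₁)
    (by rw [rho_comm h1, hfr.z1_1]) (by rw [rho_comm h2, hfr.z2_1, map_neg])
  obtain ⟨κ₂, e2⟩ := hfr.line2 (ρ k w₂)
    (by rw [rho_comm h1, hfr.z1_2, map_neg]) (by rw [rho_comm h2, hfr.z2_2])
  obtain ⟨κ₃, e3⟩ := hfr.line3 (ρ k w₃)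
    (by rw [rho_comm h1, hfr.z1_3, map_neg]) (by rw [rho_comm h2, hfr.z2_3, map_neg])
  exact ⟨κ₀, κ₁, κ₂, κ₃, sign_cases _ (smul_ne_zero_of_map hfr.ne0 e0),
    sign_cases _ (smul_ne_zero_of_map hfr.ne1 e1), sign_cases _ (smul_ne_zero_of_map hfr.ne2 e2),
    sign_cases _ (smul_ne_zero_of_map hfr.ne3 e3), e0, e1, e2, e3⟩

/-- Elements of type `(+, -)` are monomial: they swap `w₀ ↔ w₁` and `w₂ ↔ w₃`. -/
theorem mono_of_type (hneg : ∀ v ∈ commE ρ R, ρ c v = -v) {r : S} (hr : r ∈ R)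
    (h1 : z₁ * r = r * z₁) (h2 : z₂ * r = r * z₂ * c) :
    ∃ α β γ δ : ZMod 3, (α = 1 ∨ α = -1) ∧ (β = 1 ∨ β = -1) ∧ (γ = 1 ∨ γ = -1) ∧
      (δ = 1 ∨ δ = -1) ∧ ρ r w₀ = α • w₁ ∧ ρ r w₁ = β • w₀ ∧ ρ r w₂ = γ • w₃ ∧
      ρ r w₃ = δ • w₂ := by
  obtain ⟨α, e0⟩ := hfr.line1 (ρ r w₀)
    (by rw [rho_comm h1, hfr.z1_0]) (by rw [rho_anti h2 (hneg _ hfr.mem0), hfr.z2_0])
  obtain ⟨β, e1⟩ := hfr.line0 (ρ r w₁) (commE_self_invariant ρ hr hfr.mem1)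
    (by rw [rho_comm h1, hfr.z1_1])
    (by rw [rho_anti h2 (hneg _ hfr.mem1), hfr.z2_1, map_neg, neg_neg])
  obtain ⟨γ, e2⟩ := hfr.line3 (ρ r w₂)
    (by rw [rho_comm h1, hfr.z1_2, map_neg]) (by rw [rho_anti h2 (hneg _ hfr.mem2), hfr.z2_2])
  obtain ⟨δ, e3⟩ := hfr.line2 (ρ r w₃)
    (by rw [rho_comm h1, hfr.z1_3, map_neg])
    (by rw [rho_anti h2 (hneg _ hfr.mem3), hfr.z2_3, map_neg, neg_neg])
  exact ⟨α, β, γ, δ, sign_cases _ (smul_ne_zero_of_map hfr.ne0 e0),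
    sign_cases _ (smul_ne_zero_of_map hfr.ne1 e1), sign_cases _ (smul_ne_zero_of_map hfr.ne2 e2),
    sign_cases _ (smul_ne_zero_of_map hfr.ne3 e3), e0, e1, e2, e3⟩

variable [Finite E]

/-- reflection in `w₀` -/
theorem refl0 {g : S} (hg : g ∈ R) (hdet : LinearMap.det (ρ g) = 1) (h0 : ρ g w₀ = -w₀)
    (h1 : ρ g w₁ = w₁) (h2 : ρ g w₂ = w₂) (h3 : ρ g w₃ = w₃) : False := by
  apply refl_false hdet hfr.ne0 h0
  intro v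
  obtain ⟨f, hf, a₀, a₁, a₂, a₃, rfl⟩ := hfr.span v
  refine ⟨f + a₁ • w₁ + a₂ • w₂ + a₃ • w₃, ?_, a₀, by abel⟩
  simp only [map_add, map_smul, hf g hg, h1, h2, h3]

theorem refl1 {g : S} (hg : g ∈ R) (hdet : LinearMap.det (ρ g) = 1) (h0 : ρ g w₀ = w₀)
    (h1 : ρ g w₁ = -w₁) (h2 : ρ g w₂ = w₂) (h3 : ρ g w₃ = w₃) : False := by
  apply refl_false hdet hfr.ne1 h1
  intro v
  obtain ⟨f, hf, a₀, a₁, a₂, a₃, rfl⟩ := hfr.span v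
  refine ⟨f + a₀ • w₀ + a₂ • w₂ + a₃ • w₃, ?_, a₁, by abel⟩
  simp only [map_add, map_smul, hf g hg, h0, h2, h3]

theorem refl2 {g : S} (hg : g ∈ R) (hdet : LinearMap.det (ρ g) = 1) (h0 : ρ g w₀ = w₀)
    (h1 : ρ g w₁ = w₁) (h2 : ρ g w₂ = -w₂) (h3 : ρ g w₃ = w₃) : False := by
  apply refl_false hdet hfr.ne2 h2
  intro v
  obtain ⟨f, hf, a₀, a₁, a₂, a₃, rfl⟩ := hfr.span v
  refine ⟨f + a₀ • w₀ + a₁ • w₁ + a₃ • w₃, ?_, a₂, by abel⟩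
  simp only [map_add, map_smul, hf g hg, h0, h1, h3]

theorem refl3 {g : S} (hg : g ∈ R) (hdet : LinearMap.det (ρ g) = 1) (h0 : ρ g w₀ = w₀)
    (h1 : ρ g w₁ = w₁) (h2 : ρ g w₂ = w₂) (h3 : ρ g w₃ = -w₃) : False := by
  apply refl_false hdet hfr.ne3 h3
  intro v
  obtain ⟨f, hf, a₀, a₁, a₂, a₃, rfl⟩ := hfr.span v
  refine ⟨f + a₀ • w₀ + a₁ • w₁ + a₂ • w₂, ?_, a₃, by abel⟩
  simp only [map_add, map_smul, hf g hg, h0, h1, h2]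

/-- **Parity**: a diagonal element of `R` (all of whose elements, and those of `R c`, have
determinant one) has an even number of signs `-1`. -/
theorem parity (hneg : ∀ v ∈ commE ρ R, ρ c v = -v) (hcR : c ∈ R)
    (hdet : ∀ g ∈ R, LinearMap.det (ρ g) = 1) {k : S} (hk : k ∈ R)
    {κ₀ κ₁ κ₂ κ₃ : ZMod 3} (s0 : κ₀ = 1 ∨ κ₀ = -1) (s1 : κ₁ = 1 ∨ κ₁ = -1)
    (s2 : κ₂ = 1 ∨ κ₂ = -1) (s3 : κ₃ = 1 ∨ κ₃ = -1) (e0 : ρ k w₀ = κ₀ • w₀)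
    (e1 : ρ k w₁ = κ₁ • w₁) (e2 : ρ k w₂ = κ₂ • w₂) (e3 : ρ k w₃ = κ₃ • w₃) :
    κ₀ * κ₁ * κ₂ * κ₃ = 1 := by
  have c0 := hneg _ hfr.mem0
  have c1 := hneg _ hfr.mem1
  have c2 := hneg _ hfr.mem2
  have c3 := hneg _ hfr.mem3
  have hkc : k * c ∈ R := R.mul_mem hk hcR
  rcases s0 with rfl | rfl <;> rcases s1 with rfl | rfl <;> rcases s2 with rfl | rfl <;>
    rcases s3 with rfl | rfl <;> simp only [one_smul, neg_smul] at e0 e1 e2 e3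
  · decide
  · exact (hfr.refl3 hk (hdet k hk) e0 e1 e2 e3).elim
  · exact (hfr.refl2 hk (hdet k hk) e0 e1 e2 e3).elim
  · decide
  · exact (hfr.refl1 hk (hdet k hk) e0 e1 e2 e3).elim
  · decide
  · decide
  · exfalso
    apply hfr.refl0 hkc (hdet _ hkc)
    · rw [rho_mul_apply, c0, map_neg, e0]
    · rw [rho_mul_apply, c1, map_neg, e1, neg_neg]
    · rw [rho_mul_apply, c2, map_neg, e2, neg_neg]
    · rw [rho_mul_apply, c3, map_neg, e3, neg_neg]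
  · exact (hfr.refl0 hk (hdet k hk) e0 e1 e2 e3).elim
  · decide
  · decide
  · exfalso
    apply hfr.refl1 hkc (hdet _ hkc)
    · rw [rho_mul_apply, c0, map_neg, e0, neg_neg]
    · rw [rho_mul_apply, c1, map_neg, e1]
    · rw [rho_mul_apply, c2, map_neg, e2, neg_neg]
    · rw [rho_mul_apply, c3, map_neg, e3, neg_neg]
  · decide
  · exfalso
    apply hfr.refl2 hkc (hdet _ hkc)
    · rw [rho_mul_apply, c0, map_neg, e0, neg_neg]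
    · rw [rho_mul_apply, c1, map_neg, e1, neg_neg]
    · rw [rho_mul_apply, c2, map_neg, e2]
    · rw [rho_mul_apply, c3, map_neg, e3, neg_neg]
  · exfalso
    apply hfr.refl3 hkc (hdet _ hkc)
    · rw [rho_mul_apply, c0, map_neg, e0, neg_neg]
    · rw [rho_mul_apply, c1, map_neg, e1, neg_neg]
    · rw [rho_mul_apply, c2, map_neg, e2, neg_neg]
    · rw [rho_mul_apply, c3, map_neg, e3]
  · decide

end Frame

end Cfsg.Agent.Helper9.HH3
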