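import Cfsg.Agent.Helper9.HH3.CaseZ2a3

/-!
# Case Z2a: squares of elements of type `(+, -)`
-/

set_option autoImplicit false

namespace Cfsg.Agent.Helper9.HH3

variable {S : Type*} [Group S] {E : Type*} [AddCommGroup E] [Module (ZMod 3) E]
variable {ρ : Representation (ZMod 3) S E} {b : S} {v₀ : E} {R : Subgroup S} {c : S}

section types

variable (hcen : CenInv b R c)
include hcen

/-- commutation types multiply -/
theorem type_mul {z r s ζ ζ' : S} (hs : s ∈ R) (hζ : ζ ∈ Subgroup.zpowers c)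
    (h1 : z * r = r * z * ζ) (h2 : z * s = s * z * ζ') :
    z * (r * s) = (r * s) * z * (ζ' * ζ) := by
  have e := hcen.z_comm hζ hs
  calc z * (r * s) = (z * r) * s := by group
    _ = r * z * ζ * s := by rw [h1]
    _ = r * z * (ζ * s) := by group
    _ = r * z * (s * ζ) := by rw [e]
    _ = r * (z * s) * ζ := by group
    _ = r * (s * z * ζ') * ζ := by rw [h2]
    _ = (r * s) * z * (ζ' * ζ) := by group

variable {z₁ z₂ z₃ : S} (hf : FourCfg b z₁ z₂ z₃)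
include hf

/-- the commutation type of `b r b⁻¹` -/
theorem type_shift {r ζ₁ ζ₂ : S} (hz2R : z₂ ∈ R) (hζ₁ : ζ₁ ∈ Subgroup.zpowers c)
    (hζ₂ : ζ₂ ∈ Subgroup.zpowers c) (h1 : z₁ * r = r * z₁ * ζ₁) (h2 : z₂ * r = r * z₂ * ζ₂) :
    z₁ * (b * r * b⁻¹) = (b * r * b⁻¹) * z₁ * (ζ₁ * ζ₂) ∧
    z₂ * (b * r * b⁻¹) = (b * r * b⁻¹) * z₂ * ζ₁ := by
  have f1 : b * ζ₁ = ζ₁ * b := hcen.z_fix hζ₁
  have f2 : b * ζ₂ = ζ₂ * b := hcen.z_fix hζ₂
  have e12 : ζ₁ * z₂ = z₂ * ζ₁ := hcen.z_comm hζ₁ hz2R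
  have h3 : z₃ * r = r * z₃ * (ζ₁ * ζ₂) := by
    rw [← hf.mul12]
    calc z₁ * z₂ * r = z₁ * (z₂ * r) := by group
      _ = z₁ * (r * z₂ * ζ₂) := by rw [h2]
      _ = (z₁ * r) * z₂ * ζ₂ := by group
      _ = r * z₁ * ζ₁ * z₂ * ζ₂ := by rw [h1]
      _ = r * z₁ * (ζ₁ * z₂) * ζ₂ := by group
      _ = r * z₁ * (z₂ * ζ₁) * ζ₂ := by rw [e12]
      _ = r * (z₁ * z₂) * (ζ₁ * ζ₂) := by group
  constructor
  · have hb1 : z₁ * b = b * z₃ := by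
      have := hf.c31
      calc z₁ * b = b * z₃ * b⁻¹ * b := by rw [this]
        _ = b * z₃ := by group
    have hb1' : z₃ * b⁻¹ = b⁻¹ * z₁ := by
      calc z₃ * b⁻¹ = b⁻¹ * (b * z₃ * b⁻¹) := by group
        _ = b⁻¹ * z₁ := by rw [hf.c31]
    have f12 : (ζ₁ * ζ₂) * b⁻¹ = b⁻¹ * (ζ₁ * ζ₂) := by
      have := hcen.z_fix' (Subgroup.mul_mem _ hζ₁ hζ₂)
      exact this.symm
    calc z₁ * (b * r * b⁻¹) = (z₁ * b) * r * b⁻¹ := by group
      _ = b * z₃ * r * b⁻¹ := by rw [hb1]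
      _ = b * (z₃ * r) * b⁻¹ := by group
      _ = b * (r * z₃ * (ζ₁ * ζ₂)) * b⁻¹ := by rw [h3]
      _ = b * r * z₃ * ((ζ₁ * ζ₂) * b⁻¹) := by group
      _ = b * r * z₃ * (b⁻¹ * (ζ₁ * ζ₂)) := by rw [f12]
      _ = b * r * (z₃ * b⁻¹) * (ζ₁ * ζ₂) := by group
      _ = b * r * (b⁻¹ * z₁) * (ζ₁ * ζ₂) := by rw [hb1']
      _ = (b * r * b⁻¹) * z₁ * (ζ₁ * ζ₂) := by group
  · have hb2 : z₂ * b = b * z₁ := by
      have := hf.c12
      calc z₂ * b = b * z₁ * b⁻¹ * b := by rw [this]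
        _ = b * z₁ := by group
    have hb2' : z₁ * b⁻¹ = b⁻¹ * z₂ := by
      calc z₁ * b⁻¹ = b⁻¹ * (b * z₁ * b⁻¹) := by group
        _ = b⁻¹ * z₂ := by rw [hf.c12]
    have f1' : ζ₁ * b⁻¹ = b⁻¹ * ζ₁ := (hcen.z_fix' hζ₁).symm
    calc z₂ * (b * r * b⁻¹) = (z₂ * b) * r * b⁻¹ := by group
      _ = b * z₁ * r * b⁻¹ := by rw [hb2]
      _ = b * (z₁ * r) * b⁻¹ := by group
      _ = b * (r * z₁ * ζ₁) * b⁻¹ := by rw [h1]
      _ = b * r * z₁ * (ζ₁ * b⁻¹) := by group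
      _ = b * r * z₁ * (b⁻¹ * ζ₁) := by rw [f1']
      _ = b * r * (z₁ * b⁻¹) * ζ₁ := by group
      _ = b * r * (b⁻¹ * z₂) * ζ₁ := by rw [hb2']
      _ = (b * r * b⁻¹) * z₂ * ζ₁ := by group

end types

theorem sign_key : ∀ α β γ δ : ZMod 3, (α = 1 ∨ α = -1) → (β = 1 ∨ β = -1) → (γ = 1 ∨ γ = -1) →
    (δ = 1 ∨ δ = -1) →
    ((α * γ * β = 1 ∨ α * γ * β = -1) ∧ (γ * β * α = 1 ∨ γ * β * α = -1) ∧
      (δ * δ * δ = 1 ∨ δ * δ * δ = -1) ∧ (β * α * γ = 1 ∨ β * α * γ = -1)) ∧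
    ((α * γ * β) * (γ * β * α) * (δ * δ * δ) * (β * α * γ) = 1 →
      (α * β = 1 ∧ β * α = 1 ∧ γ * δ = 1 ∧ δ * γ = 1) ∨
      (α * β = -1 ∧ β * α = -1 ∧ γ * δ = -1 ∧ δ * γ = -1)) := by
  decide

variable [Finite E]

/-- **Squares of elements of type `(+, -)`.** -/
theorem sq_of_type (hρ : Function.Injective ρ) (hB : BAct b R) (hcen : CenInv b R c)
    (hneg : ∀ v ∈ commE ρ R, ρ c v = -v) (hdet : ∀ g ∈ R, LinearMap.det (ρ g) = 1)
    {z₁ z₂ z₃ : S} (hf : FourCfg b z₁ z₂ z₃) (hz2R : z₂ ∈ R) {w₀ w₁ w₂ w₃ : E}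
    (hfr : Frame ρ b R z₁ z₂ w₀ w₁ w₂ w₃) {r : S} (hr : r ∈ R) (h1 : z₁ * r = r * z₁)
    (h2 : z₂ * r = r * z₂ * c) : r * r = 1 ∨ r * r = c := by
  obtain ⟨α, β, γ, δ, sα, sβ, sγ, sδ, e0, e1, e2, e3⟩ := hfr.mono_of_type hneg hr h1 h2
  have bi0 : ρ b⁻¹ w₀ = w₀ := by
    have := rho_inv_apply ρ b w₀
    rwa [hfr.b0] at this
  have bi1 : ρ b⁻¹ w₁ = w₃ := by
    have := rho_inv_apply ρ b w₃
    rwa [hfr.b3] at this
  have bi2 : ρ b⁻¹ w₂ = w₁ := by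
    have := rho_inv_apply ρ b w₁
    rwa [hfr.b1] at this
  have bi3 : ρ b⁻¹ w₃ = w₂ := by
    have := rho_inv_apply ρ b w₂
    rwa [hfr.b2] at this
  set r' : S := b * r * b⁻¹ with hr'
  set r'' : S := b * r' * b⁻¹ with hr''
  have hr'R : r' ∈ R := hB.inv r hr
  have hr''R : r'' ∈ R := hB.inv r' hr'R
  have a0 : ρ r' w₀ = α • w₂ := by
    rw [hr', rho_mul_apply, rho_mul_apply, bi0, e0, map_smul, hfr.b1]
  have a1 : ρ r' w₁ = δ • w₃ := by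
    rw [hr', rho_mul_apply, rho_mul_apply, bi1, e3, map_smul, hfr.b2]
  have a2 : ρ r' w₂ = β • w₀ := by
    rw [hr', rho_mul_apply, rho_mul_apply, bi2, e1, map_smul, hfr.b0]
  have a3 : ρ r' w₃ = γ • w₁ := by
    rw [hr', rho_mul_apply, rho_mul_apply, bi3, e2, map_smul, hfr.b3]
  have d0 : ρ r'' w₀ = α • w₃ := by
    rw [hr'', rho_mul_apply, rho_mul_apply, bi0, a0, map_smul, hfr.b2]
  have d1 : ρ r'' w₁ = γ • w₂ := by
    rw [hr'', rho_mul_apply, rho_mul_apply, bi1, a3, map_smul, hfr.b1]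
  have d2 : ρ r'' w₂ = δ • w₁ := by
    rw [hr'', rho_mul_apply, rho_mul_apply, bi2, a1, map_smul, hfr.b3]
  have d3 : ρ r'' w₃ = β • w₀ := by
    rw [hr'', rho_mul_apply, rho_mul_apply, bi3, a2, map_smul, hfr.b0]
  -- the product m
  have hmR : r * r' * r'' ∈ R := R.mul_mem (R.mul_mem hr hr'R) hr''R
  have m0 : ρ (r * r' * r'') w₀ = (α * γ * β) • w₀ := by
    rw [rho_mul_apply, rho_mul_apply, d0, map_smul, a3, map_smul, map_smul, e1, smul_smul,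
      smul_smul]
  have m1 : ρ (r * r' * r'') w₁ = (γ * β * α) • w₁ := by
    rw [rho_mul_apply, rho_mul_apply, d1, map_smul, a2, map_smul, map_smul, e0, smul_smul,
      smul_smul]
  have m2 : ρ (r * r' * r'') w₂ = (δ * δ * δ) • w₂ := by
    rw [rho_mul_apply, rho_mul_apply, d2, map_smul, a1, map_smul, map_smul, e3, smul_smul,
      smul_smul]
  have m3 : ρ (r * r' * r'') w₃ = (β * α * γ) • w₃ := by
    rw [rho_mul_apply, rho_mul_apply, d3, map_smul, a0, map_smul, map_smul, e2, smul_smul,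
      smul_smul]
  -- its type
  have hone : (1 : S) ∈ Subgroup.zpowers c := Subgroup.one_mem _
  have hcc : c ∈ Subgroup.zpowers c := Subgroup.mem_zpowers c
  have h1' : z₁ * r = r * z₁ * 1 := by rw [mul_one, h1]
  obtain ⟨t1, t2⟩ := type_shift hcen hf hz2R hone hcc h1' h2
  rw [one_mul] at t1
  obtain ⟨u1, u2⟩ := type_shift hcen hf hz2R hcc hone t1 t2
  rw [mul_one] at u1
  have hm1 : z₁ * (r * r' * r'') = (r * r' * r'') * z₁ := by
    have s1 := type_mul hcen hr'R hone h1' t1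
    have s2 := type_mul hcen hr''R (Subgroup.mul_mem _ hcc hone) s1 u1
    rw [s2, mul_one, hcen.sq, mul_one]
  have hm2 : z₂ * (r * r' * r'') = (r * r' * r'') * z₂ := by
    have s1 := type_mul hcen hr'R hcc h2 t2
    have s2 := type_mul hcen hr''R (Subgroup.mul_mem _ hone hcc) s1 u2
    rw [s2, one_mul, hcen.sq, mul_one]
  obtain ⟨⟨k0, k1, k2, k3⟩, hkey⟩ := sign_key α β γ δ sα sβ sγ sδ
  have hpar := hfr.parity hneg hcen.mem hdet hmR k0 k1 k2 k3 m0 m1 m2 m3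
  have hrr : r * r ∈ R := R.mul_mem hr hr
  have q0 : ρ (r * r) w₀ = (α * β) • w₀ := by
    rw [rho_mul_apply, e0, map_smul, e1, smul_smul]
  have q1 : ρ (r * r) w₁ = (β * α) • w₁ := by
    rw [rho_mul_apply, e1, map_smul, e0, smul_smul]
  have q2 : ρ (r * r) w₂ = (γ * δ) • w₂ := by
    rw [rho_mul_apply, e2, map_smul, e3, smul_smul]
  have q3 : ρ (r * r) w₃ = (δ * γ) • w₃ := by
    rw [rho_mul_apply, e3, map_smul, e2, smul_smul]
  rcases hkey hpar with ⟨p0, p1, p2, p3⟩ | ⟨p0, p1, p2, p3⟩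
  · left
    apply hfr.agree hρ hrr R.one_mem
    · rw [q0, p0, one_smul, rho_one_apply]
    · rw [q1, p1, one_smul, rho_one_apply]
    · rw [q2, p2, one_smul, rho_one_apply]
    · rw [q3, p3, one_smul, rho_one_apply]
  · right
    apply hfr.agree hρ hrr hcen.mem
    · rw [q0, p0, neg_smul, one_smul, hneg _ hfr.mem0]
    · rw [q1, p1, neg_smul, one_smul, hneg _ hfr.mem1]
    · rw [q2, p2, neg_smul, one_smul, hneg _ hfr.mem2]
    · rw [q3, p3, neg_smul, one_smul, hneg _ hfr.mem3]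

end Cfsg.Agent.Helper9.HH3
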