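import Cfsg.Agent.Helper9.HH3.CaseZ2a4

/-!
# Case Z2a: the order of `R` and the conclusion
-/

set_option autoImplicit false

namespace Cfsg.Agent.Helper9.HH3

variable {S : Type*} [Group S] {E : Type*} [AddCommGroup E] [Module (ZMod 3) E]
variable {ρ : Representation (ZMod 3) S E} {b : S} {v₀ : E} {R : Subgroup S} {c : S}

/-- A subgroup covering `H'` by two cosets has half the order. -/
theorem card_eq_two_mul {H H' : Subgroup S} [Finite ↥H'] (hle : H ≤ H') {a : S} (ha : a ∈ H')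
    (ha' : a ∉ H) (hcov : ∀ g ∈ H', g ∈ H ∨ g * a ∈ H) : Nat.card ↥H' = 2 * Nat.card ↥H := by
  have h2 : (H.subgroupOf H').index = 2 := by
    rw [Subgroup.index_eq_two_iff]
    refine ⟨⟨a, ha⟩, fun g => ?_⟩
    simp only [Subgroup.mem_subgroupOf, Subgroup.coe_mul]
    by_cases hg : (g : S) ∈ H
    · right
      refine ⟨hg, fun h => ha' ?_⟩
      have := H.mul_mem (H.inv_mem hg) h
      simpa using this
    · left
      rcases hcov g g.2 with h | h
      · exact absurd h hg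
      · exact ⟨h, hg⟩
  have h3 := Subgroup.card_mul_index (H.subgroupOf H')
  rw [h2, Nat.card_congr (Subgroup.subgroupOfEquivOfLe hle).toEquiv] at h3
  omega

/-- The centralizer of one element, with a convenient membership lemma. -/
def cz (z : S) : Subgroup S := Subgroup.centralizer {z}

theorem mem_cz {z g : S} : g ∈ cz z ↔ z * g = g * z := by
  unfold cz
  rw [Subgroup.mem_centralizer_iff]
  simp

/-- The stabilizer of a vector. -/
def vecStab (ρ : Representation (ZMod 3) S E) (w : E) : Subgroup S where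
  carrier := {g | ρ g w = w}
  one_mem' := rho_one_apply ρ w
  mul_mem' := by
    intro a b ha hb
    show ρ (a * b) w = w
    rw [rho_mul_apply, hb, ha]
  inv_mem' := by
    intro a ha
    show ρ a⁻¹ w = w
    have := rho_inv_apply ρ a w
    rwa [ha] at this

theorem mem_vecStab {w : E} {g : S} : g ∈ vecStab ρ w ↔ ρ g w = w := Iff.rfl

theorem sq_conj (hcen : CenInv b R c) {r : S}
    (h : (b * r * b⁻¹) * (b * r * b⁻¹) = 1 ∨ (b * r * b⁻¹) * (b * r * b⁻¹) = c) :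
    r * r = 1 ∨ r * r = c := by
  have e : r * r = b⁻¹ * ((b * r * b⁻¹) * (b * r * b⁻¹)) * b := by group
  rcases h with h | h
  · left; rw [e, h]; group
  · right
    rw [e, h]
    have := hcen.z_fix' (Subgroup.mem_zpowers c)
    rw [this]; group

variable [Finite S] [Finite E]

set_option maxHeartbeats 800000 in
/-- **Case Z2a.** -/
theorem caseZ2a (hc : Cub ρ b v₀) (hB : BAct b R) (hcen : CenInv b R c) (hR2 : IsPGroup 2 ↥R)
    (hneg : ∀ v ∈ commE ρ R, ρ c v = -v) {x : S} (hx : IsZ2 R c x) (hx1 : x ≠ 1) (hxc : x ≠ c)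
    (hcomm : x * (b * x * b⁻¹) = (b * x * b⁻¹) * x) : Good b R := by
  obtain ⟨z₁, z₂, z₃, hf, hz1, hz2, hz3, hnc⟩ := exists_fourCfg_of_isZ2 hB hcen hx hx1 hxc hcomm
  have hone : (1 : S) ∈ Subgroup.zpowers c := Subgroup.one_mem _
  have hcc : c ∈ Subgroup.zpowers c := Subgroup.mem_zpowers c
  have hdet : ∀ g ∈ R, LinearMap.det (ρ g) = 1 := by
    intro r hr
    apply det_eq_one_of_mem_commutator ρ (H := R) (K := Subgroup.zpowers b)
    rw [hB.gen]; exact hr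
  -- the two special elements
  have hex : ∃ r₀ ∈ R, ∃ r₁ ∈ R, z₁ * r₀ = r₀ * z₁ ∧ z₂ * r₀ = r₀ * z₂ * c ∧
      z₁ * r₁ = r₁ * z₁ * c ∧ z₂ * r₁ = r₁ * z₂ := by
    push Not at hnc
    obtain ⟨r, hr, hne⟩ := hnc
    have t1 : z₁ * r = r * z₁ * c := by
      rcases hz1.2 r hr with h | h
      · exact absurd h hne
      · exact h
    have hr' : b * r * b⁻¹ ∈ R := hB.inv r hr
    have hr'' : b * (b * r * b⁻¹) * b⁻¹ ∈ R := hB.inv _ hr'
    rcases hz2.2 r hr with t2 | t2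
    · -- type (c, 1)
      have t2' : z₂ * r = r * z₂ * 1 := by rw [mul_one, t2]
      obtain ⟨u1, u2⟩ := type_shift hcen hf hz2.1 hcc hone t1 t2'
      rw [mul_one] at u1
      obtain ⟨v1, v2⟩ := type_shift hcen hf hz2.1 hcc hcc u1 u2
      rw [hcen.sq, mul_one] at v1
      exact ⟨_, hr'', r, hr, v1, v2, t1, t2⟩
    · -- type (c, c)
      obtain ⟨u1, u2⟩ := type_shift hcen hf hz2.1 hcc hcc t1 t2
      rw [hcen.sq, mul_one] at u1
      have u1' : z₁ * (b * r * b⁻¹) = (b * r * b⁻¹) * z₁ * 1 := by rw [mul_one, u1]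
      obtain ⟨v1, v2⟩ := type_shift hcen hf hz2.1 hone hcc u1' u2
      rw [one_mul] at v1
      rw [mul_one] at v2
      exact ⟨_, hr', _, hr'', u1, u2, v1, v2⟩
  obtain ⟨r₀, hr₀, r₁, hr₁, p1, p2, q1, q2⟩ := hex
  obtain ⟨w₀, w₁, w₂, w₃, hfr, -⟩ :=
    exists_frame hc hcen hR2 hneg hf hz1.1 hz2.1 hz3.1 hr₀ p1 p2
  have c0 := hneg _ hfr.mem0
  have c1 := hneg _ hfr.mem1
  have c2 := hneg _ hfr.mem2
  have c3 := hneg _ hfr.mem3
  have hcne : ∀ g : S, g * c ≠ g := by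
    intro g h
    apply hcen.ne
    calc c = g⁻¹ * (g * c) := by group
      _ = 1 := by rw [h]; group
  -- the chain
  set H₄ : Subgroup S := R ⊓ cz z₁ with hH₄
  set H₃ : Subgroup S := H₄ ⊓ cz z₂ with hH₃
  set H₂ : Subgroup S := H₃ ⊓ vecStab ρ w₀ with hH₂
  set H₁ : Subgroup S := H₂ ⊓ vecStab ρ w₁ with hH₁
  set H₀ : Subgroup S := H₁ ⊓ vecStab ρ w₂ with hH₀
  have mem4 : ∀ {g : S}, g ∈ H₄ ↔ g ∈ R ∧ z₁ * g = g * z₁ := by
    intro g; rw [hH₄, Subgroup.mem_inf, mem_cz]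
  have mem3 : ∀ {g : S}, g ∈ H₃ ↔ g ∈ R ∧ z₁ * g = g * z₁ ∧ z₂ * g = g * z₂ := by
    intro g; rw [hH₃, Subgroup.mem_inf, mem4, mem_cz, and_assoc]
  have hdiag : ∀ {g : S}, g ∈ H₃ → ∃ κ₀ κ₁ κ₂ κ₃ : ZMod 3, (κ₀ = 1 ∨ κ₀ = -1) ∧
      (κ₁ = 1 ∨ κ₁ = -1) ∧ (κ₂ = 1 ∨ κ₂ = -1) ∧ (κ₃ = 1 ∨ κ₃ = -1) ∧ ρ g w₀ = κ₀ • w₀ ∧
      ρ g w₁ = κ₁ • w₁ ∧ ρ g w₂ = κ₂ • w₂ ∧ ρ g w₃ = κ₃ • w₃ := by
    intro g hg
    obtain ⟨h1, h2, h3⟩ := mem3.1 hg
    exact hfr.diag_of_comm h1 h2 h3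
  have hcH₃ : c ∈ H₃ := mem3.2 ⟨hcen.mem, (hcen.comm _ hz1.1).symm, (hcen.comm _ hz2.1).symm⟩
  have hz2H₃ : z₂ ∈ H₃ := mem3.2 ⟨hz2.1, hf.comm, rfl⟩
  have hz1H₃ : z₁ ∈ H₃ := mem3.2 ⟨hz1.1, rfl, hf.comm.symm⟩
  have s5 : Nat.card ↥R = 2 * Nat.card ↥H₄ := by
    apply card_eq_two_mul inf_le_left hr₁
    · intro h
      have := (mem4.1 h).2
      rw [q1] at this
      exact hcne _ this
    · intro g hg
      rcases hz1.2 g hg with h | h
      · left; exact mem4.2 ⟨hg, h⟩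
      · right
        refine mem4.2 ⟨R.mul_mem hg hr₁, ?_⟩
        have := type_mul hcen hr₁ hcc h q1
        rw [this, hcen.sq, mul_one]
  have s4 : Nat.card ↥H₄ = 2 * Nat.card ↥H₃ := by
    apply card_eq_two_mul inf_le_left (mem4.2 ⟨hr₀, p1⟩)
    · intro h
      have := (mem3.1 h).2.2
      rw [p2] at this
      exact hcne _ this
    · intro g hg
      obtain ⟨hgR, hg1⟩ := mem4.1 hg
      rcases hz2.2 g hgR with h | h
      · left; exact mem3.2 ⟨hgR, hg1, h⟩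
      · right
        refine mem3.2 ⟨R.mul_mem hgR hr₀, ?_, ?_⟩
        · have hg1' : z₁ * g = g * z₁ * 1 := by rw [mul_one, hg1]
          have p1' : z₁ * r₀ = r₀ * z₁ * 1 := by rw [mul_one, p1]
          have := type_mul hcen hr₀ hone hg1' p1'
          rw [this, mul_one, mul_one]
        · have := type_mul hcen hr₀ hcc h p2
          rw [this, hcen.sq, mul_one]
  have s3 : Nat.card ↥H₃ = 2 * Nat.card ↥H₂ := by
    apply card_eq_two_mul inf_le_left hcH₃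
    · intro h
      have : ρ c w₀ = w₀ := (Subgroup.mem_inf.1 h).2
      rw [c0] at this
      exact neg_ne_self hfr.ne0 this
    · intro g hg
      obtain ⟨κ₀, κ₁, κ₂, κ₃, s0, -, -, -, e0, -, -, -⟩ := hdiag hg
      rcases s0 with rfl | rfl
      · left
        rw [one_smul] at e0
        exact Subgroup.mem_inf.2 ⟨hg, e0⟩
      · right
        refine Subgroup.mem_inf.2 ⟨H₃.mul_mem hg hcH₃, ?_⟩
        show ρ (g * c) w₀ = w₀
        rw [rho_mul_apply, c0, map_neg, e0, neg_smul, one_smul, neg_neg]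
  have hz2H₂ : z₂ ∈ H₂ := Subgroup.mem_inf.2 ⟨hz2H₃, hfr.z2_0⟩
  have hz1H₂ : z₁ ∈ H₂ := Subgroup.mem_inf.2 ⟨hz1H₃, hfr.z1_0⟩
  have hz1H₁ : z₁ ∈ H₁ := Subgroup.mem_inf.2 ⟨hz1H₂, hfr.z1_1⟩
  have s2 : Nat.card ↥H₂ = 2 * Nat.card ↥H₁ := by
    apply card_eq_two_mul inf_le_left hz2H₂
    · intro h
      have : ρ z₂ w₁ = w₁ := (Subgroup.mem_inf.1 h).2
      rw [hfr.z2_1] at this
      exact neg_ne_self hfr.ne1 this
    · intro g hg
      obtain ⟨κ₀, κ₁, κ₂, κ₃, -, s1, -, -, -, e1, -, -⟩ := hdiag (Subgroup.mem_inf.1 hg).1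
      rcases s1 with rfl | rfl
      · left
        rw [one_smul] at e1
        exact Subgroup.mem_inf.2 ⟨hg, e1⟩
      · right
        refine Subgroup.mem_inf.2 ⟨H₂.mul_mem hg hz2H₂, ?_⟩
        show ρ (g * z₂) w₁ = w₁
        rw [rho_mul_apply, hfr.z2_1, map_neg, e1, neg_smul, one_smul, neg_neg]
  have s1 : Nat.card ↥H₁ = 2 * Nat.card ↥H₀ := by
    apply card_eq_two_mul inf_le_left hz1H₁
    · intro h
      have : ρ z₁ w₂ = w₂ := (Subgroup.mem_inf.1 h).2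
      rw [hfr.z1_2] at this
      exact neg_ne_self hfr.ne2 this
    · intro g hg
      obtain ⟨κ₀, κ₁, κ₂, κ₃, -, -, s2', -, -, -, e2, -⟩ :=
        hdiag (Subgroup.mem_inf.1 (Subgroup.mem_inf.1 hg).1).1
      rcases s2' with rfl | rfl
      · left
        rw [one_smul] at e2
        exact Subgroup.mem_inf.2 ⟨hg, e2⟩
      · right
        refine Subgroup.mem_inf.2 ⟨H₁.mul_mem hg hz1H₁, ?_⟩
        show ρ (g * z₁) w₂ = w₂
        rw [rho_mul_apply, hfr.z1_2, map_neg, e2, neg_smul, one_smul, neg_neg]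
  have s0 : Nat.card ↥H₀ = 1 := by
    have : H₀ = ⊥ := by
      rw [eq_bot_iff]
      intro g hg
      rw [Subgroup.mem_bot]
      obtain ⟨hg1, e2⟩ := Subgroup.mem_inf.1 hg
      obtain ⟨hg2, e1⟩ := Subgroup.mem_inf.1 hg1
      obtain ⟨hg3, e0⟩ := Subgroup.mem_inf.1 hg2
      have e0' : ρ g w₀ = w₀ := e0
      have e1' : ρ g w₁ = w₁ := e1
      have e2' : ρ g w₂ = w₂ := e2
      obtain ⟨κ₀, κ₁, κ₂, κ₃, -, -, -, s3', -, -, -, e3⟩ := hdiag hg3
      have hgR : g ∈ R := (mem3.1 hg3).1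
      have hpar := hfr.parity hneg hcen.mem hdet hgR (Or.inl rfl) (Or.inl rfl) (Or.inl rfl) s3'
        (by rw [one_smul]; exact e0') (by rw [one_smul]; exact e1') (by rw [one_smul]; exact e2')
        e3
      rw [one_mul, one_mul, one_mul] at hpar
      rw [hpar, one_smul] at e3
      apply hfr.agree hc.faith hgR R.one_mem
      · rw [e0', rho_one_apply]
      · rw [e1', rho_one_apply]
      · rw [e2', rho_one_apply]
      · rw [e3, rho_one_apply]
    rw [this]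
    exact Subgroup.card_bot
  have hcard : Nat.card ↥R = 32 := by omega
  -- squares
  have hsq : ∀ r ∈ R, r * r = 1 ∨ r * r = c := by
    intro r hr
    obtain ⟨ζ₁, hζ₁, t1⟩ := (hcen.isZ2_iff.1 hz1).2 r hr
    obtain ⟨ζ₂, hζ₂, t2⟩ := (hcen.isZ2_iff.1 hz2).2 r hr
    have hr' : b * r * b⁻¹ ∈ R := hB.inv r hr
    have hr'' : b * (b * r * b⁻¹) * b⁻¹ ∈ R := hB.inv _ hr'
    rcases (mem_zpowers_inv hcen.sq).1 hζ₁ with rfl | rfl <;>
      rcases (mem_zpowers_inv hcen.sq).1 hζ₂ with rfl | rfl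
    · -- diagonal
      rw [mul_one] at t1 t2
      obtain ⟨κ₀, κ₁, κ₂, κ₃, s0, s1, s2, s3, e0, e1, e2, e3⟩ := hfr.diag_of_comm hr t1 t2
      have hk : ∀ κ : ZMod 3, (κ = 1 ∨ κ = -1) → κ * κ = 1 := by decide
      left
      apply hfr.agree hc.faith (R.mul_mem hr hr) R.one_mem
      · rw [rho_mul_apply, e0, map_smul, e0, smul_smul, hk _ s0, one_smul, rho_one_apply]
      · rw [rho_mul_apply, e1, map_smul, e1, smul_smul, hk _ s1, one_smul, rho_one_apply]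
      · rw [rho_mul_apply, e2, map_smul, e2, smul_smul, hk _ s2, one_smul, rho_one_apply]
      · rw [rho_mul_apply, e3, map_smul, e3, smul_smul, hk _ s3, one_smul, rho_one_apply]
    · rw [mul_one] at t1
      exact sq_of_type hc.faith hB hcen hneg hdet hf hz2.1 hfr hr t1 t2
    · -- type (c, 1): two shifts
      obtain ⟨u1, u2⟩ := type_shift hcen hf hz2.1 hcc hone t1 t2
      rw [mul_one] at u1
      obtain ⟨v1, v2⟩ := type_shift hcen hf hz2.1 hcc hcc u1 u2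
      rw [hcen.sq, mul_one] at v1
      exact sq_conj hcen (sq_conj hcen
        (sq_of_type hc.faith hB hcen hneg hdet hf hz2.1 hfr hr'' v1 v2))
    · -- type (c, c): one shift
      obtain ⟨u1, u2⟩ := type_shift hcen hf hz2.1 hcc hcc t1 t2
      rw [hcen.sq, mul_one] at u1
      exact sq_conj hcen (sq_of_type hc.faith hB hcen hneg hdet hf hz2.1 hfr hr' u1 u2)
  have hsq' : ∀ r ∈ R, r * r ∈ Subgroup.zpowers c := fun r hr =>
    (mem_zpowers_inv hcen.sq).2 (hsq r hr)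
  -- commutators
  have hcm : ∀ r ∈ R, ∀ s ∈ R, r * s = s * r ∨ r * s = s * r * c := by
    intro r hr s hs
    have h1 := hsq' r hr
    have h2 := hsq' (r⁻¹ * s) (R.mul_mem (R.inv_mem hr) hs)
    have h3 := hsq' s⁻¹ (R.inv_mem hs)
    have hζ : (r * r) * ((r⁻¹ * s) * (r⁻¹ * s)) * (s⁻¹ * s⁻¹) ∈ Subgroup.zpowers c :=
      Subgroup.mul_mem _ (Subgroup.mul_mem _ h1 h2) h3
    have e : r * s = (r * r) * ((r⁻¹ * s) * (r⁻¹ * s)) * (s⁻¹ * s⁻¹) * (s * r) := by group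
    have e' := hcen.z_comm hζ (R.mul_mem hs hr)
    rw [e'] at e
    rcases (mem_zpowers_inv hcen.sq).1 hζ with h | h
    · left; rw [e, h, mul_one]
    · right; rw [e, h]
  right; right
  exact ⟨c, hcen.mem, hcen.ne, hcen.sq, hcen.fix, hcen.comm, hcen.uniq, hsq, hcm,
    Or.inr ⟨hcard, x, hx.1, hx1, hxc, hcomm⟩⟩

end Cfsg.Agent.Helper9.HH3
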