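import Cfsg.Agent.Helper9.HH3.Maschke

/-!
# An element of order 3 with Jordan type `(3, 1^a)` on a `ZMod 3`-module
-/

set_option autoImplicit false

namespace Cfsg.Agent.Helper9.HH3

variable {S : Type*} [Group S] {E : Type*} [AddCommGroup E] [Module (ZMod 3) E]
variable (ρ : Representation (ZMod 3) S E)

/-- The nilpotent operator `b - 1`. -/
def nb (b : S) : E →ₗ[ZMod 3] E := ρ b - LinearMap.id

theorem nb_apply (b : S) (x : E) : nb ρ b x = ρ b x - x := rfl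

/-- The pointwise stabilizer of a submodule. -/
def ptStab (W : Submodule (ZMod 3) E) : Subgroup S where
  carrier := {g | ∀ w ∈ W, ρ g w = w}
  mul_mem' := by
    intro a b ha hb w hw
    rw [rho_mul_apply, hb w hw, ha w hw]
  one_mem' := by
    intro w _
    exact rho_one_apply ρ w
  inv_mem' := by
    intro a ha w hw
    have h1 := ha w hw
    calc ρ a⁻¹ w = ρ a⁻¹ (ρ a w) := by rw [h1]
      _ = w := rho_inv_apply ρ a w

theorem mem_ptStab {W : Submodule (ZMod 3) E} {g : S} :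
    g ∈ ptStab ρ W ↔ ∀ w ∈ W, ρ g w = w := Iff.rfl

theorem three_nsmul_eq_zero (x : E) : (3 : ℕ) • x = 0 := ZModModule.char_nsmul_eq_zero 3 x

theorem add_add_self_eq_zero (x : E) : x + x + x = 0 := by
  have := three_nsmul_eq_zero x
  rw [succ_nsmul, succ_nsmul, one_nsmul] at this
  exact this

/-- `b` has order dividing 3 and acts with Jordan type `(3, 1^a)`; `v₀` is a cyclic vector
for the block of size 3. -/
structure Cub (b : S) (v₀ : E) : Prop where
  faith : Function.Injective ρ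
  b3 : b ^ 3 = 1
  top : nb ρ b (nb ρ b v₀) ≠ 0
  rng : ∀ x, ∃ c d : ZMod 3, nb ρ b x = c • nb ρ b v₀ + d • nb ρ b (nb ρ b v₀)

variable {ρ}

namespace Cub

variable {b : S} {v₀ : E} (h : Cub ρ b v₀)
include h

theorem rho_b3 (x : E) : ρ b (ρ b (ρ b x)) = x := by
  rw [← rho_mul_apply, ← rho_mul_apply]
  have : b * b * b = b ^ 3 := by rw [pow_succ, pow_two]
  rw [this, h.b3, rho_one_apply]

theorem nb_cube (x : E) : nb ρ b (nb ρ b (nb ρ b x)) = 0 := by
  simp only [nb_apply, map_sub]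
  rw [h.rho_b3]
  have h1 := add_add_self_eq_zero (ρ b (ρ b x))
  have h2 := add_add_self_eq_zero (ρ b x)
  have e : x - ρ b (ρ b x) - (ρ b (ρ b x) - ρ b x) - (ρ b (ρ b x) - ρ b x - (ρ b x - x)) =
      (ρ b x + ρ b x + ρ b x) - (ρ b (ρ b x) + ρ b (ρ b x) + ρ b (ρ b x)) := by abel
  rw [e, h1, h2, sub_zero]

theorem b_ne_one : b ≠ 1 := by
  intro hb
  apply h.top
  rw [hb]
  simp [nb_apply]

theorem nb_p1 : nb ρ b (nb ρ b (nb ρ b v₀)) = 0 := h.nb_cube v₀

theorem p2_ne : nb ρ b v₀ ≠ 0 := by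
  intro h0
  apply h.top
  rw [h0, map_zero]

/-- `(b - 1)^2 x` is a multiple of `p₁ = (b - 1)^2 v₀`. -/
theorem sq_rng (x : E) : ∃ c : ZMod 3, nb ρ b (nb ρ b x) = c • nb ρ b (nb ρ b v₀) := by
  obtain ⟨c, d, hcd⟩ := h.rng x
  refine ⟨c, ?_⟩
  rw [hcd, map_add, map_smul, map_smul, h.nb_p1, smul_zero, add_zero]

/-- **Location of the cubic block**: in a `b`-invariant decomposition `E = C ⊕ M`, `b` is trivial
on one of the summands. -/
theorem triv_or_triv {C M : Submodule (ZMod 3) E} (hCM : IsCompl C M)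
    (hC : ∀ v ∈ C, ρ b v ∈ C) (hM : ∀ v ∈ M, ρ b v ∈ M) :
    (∀ v ∈ C, ρ b v = v) ∨ (∀ v ∈ M, ρ b v = v) := by
  have hnC : ∀ v ∈ C, nb ρ b v ∈ C := fun v hv => C.sub_mem (hC v hv) hv
  have hnM : ∀ v ∈ M, nb ρ b v ∈ M := fun v hv => M.sub_mem (hM v hv) hv
  have hv₀ : v₀ ∈ C ⊔ M := by rw [hCM.sup_eq_top]; exact Submodule.mem_top
  obtain ⟨c₀, hc₀, m₀, hm₀, hv⟩ := Submodule.mem_sup.1 hv₀
  have hdisj : ∀ x, x ∈ C → x ∈ M → x = 0 := by
    intro x hx1 hx2
    have := hCM.disjoint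
    rw [Submodule.disjoint_def] at this
    exact this x hx1 hx2
  -- the key argument, symmetric in `C` and `M`
  have key : ∀ (C M : Submodule (ZMod 3) E) (c₀ m₀ : E), (∀ v ∈ C, nb ρ b v ∈ C) →
      (∀ v ∈ M, nb ρ b v ∈ M) → c₀ ∈ C → m₀ ∈ M → c₀ + m₀ = v₀ →
      (∀ x, x ∈ C → x ∈ M → x = 0) → nb ρ b (nb ρ b c₀) ≠ 0 → ∀ m ∈ M, ρ b m = m := by
    intro C M c₀ m₀ hnC hnM hc₀ hm₀ hv hdisj hne m hm
    obtain ⟨α, β, hαβ⟩ := h.rng m
    rw [← hv] at hαβ
    simp only [map_add] at hαβ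
    -- the `C`-component of `n m` vanishes
    have h1 : α • nb ρ b c₀ + β • nb ρ b (nb ρ b c₀) = 0 := by
      apply hdisj
      · exact C.add_mem (C.smul_mem _ (hnC _ hc₀)) (C.smul_mem _ (hnC _ (hnC _ hc₀)))
      · have e : α • nb ρ b c₀ + β • nb ρ b (nb ρ b c₀) =
            nb ρ b m - (α • nb ρ b m₀ + β • nb ρ b (nb ρ b m₀)) := by
          rw [hαβ]
          simp only [smul_add]
          abel
        rw [e]
        exact M.sub_mem (hnM _ hm)
          (M.add_mem (M.smul_mem _ (hnM _ hm₀)) (M.smul_mem _ (hnM _ (hnM _ hm₀))))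
    have h2 : α • nb ρ b (nb ρ b c₀) = 0 := by
      have := congrArg (nb ρ b) h1
      rw [map_add, map_smul, map_smul, h.nb_cube, smul_zero, add_zero, map_zero] at this
      exact this
    have hα : α = 0 := by
      rcases smul_eq_zero.1 h2 with h3 | h3
      · exact h3
      · exact absurd h3 hne
    rw [hα, zero_smul, zero_add] at h1
    have hβ : β = 0 := by
      rcases smul_eq_zero.1 h1 with h3 | h3
      · exact h3
      · exact absurd h3 hne
    rw [hα, hβ, zero_smul, zero_smul, add_zero] at hαβ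
    have : ρ b m - m = 0 := hαβ
    exact sub_eq_zero.1 this
  have htop : nb ρ b (nb ρ b c₀) + nb ρ b (nb ρ b m₀) ≠ 0 := by
    have := h.top
    rw [← hv, map_add, map_add] at this
    exact this
  by_cases hc : nb ρ b (nb ρ b c₀) = 0
  · left
    have hm : nb ρ b (nb ρ b m₀) ≠ 0 := by
      intro h0
      apply htop
      rw [hc, h0, add_zero]
    exact key M C m₀ c₀ hnM hnC hm₀ hc₀ (by rw [add_comm]; exact hv)
      (fun x hx1 hx2 => hdisj x hx2 hx1) hm
  · right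
    exact key C M c₀ m₀ hnC hnM hc₀ hm₀ hv hdisj hc

omit h in
/-- If `b` is trivial on `C`, then `(b - 1) E ≤ M`. -/
theorem nb_mem_of_triv {C M : Submodule (ZMod 3) E} (hCM : IsCompl C M)
    (hM : ∀ v ∈ M, ρ b v ∈ M) (hC : ∀ v ∈ C, ρ b v = v) (x : E) : nb ρ b x ∈ M := by
  have hx : x ∈ C ⊔ M := by rw [hCM.sup_eq_top]; exact Submodule.mem_top
  obtain ⟨c, hc, m, hm, rfl⟩ := Submodule.mem_sup.1 hx
  rw [map_add]
  have h1 : nb ρ b c = 0 := by rw [nb_apply, hC c hc, sub_self]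
  rw [h1, zero_add]
  exact M.sub_mem (hM m hm) hm

/-- `b` cannot be trivial on a summand containing `p₁`. -/
theorem not_triv_of_p1_mem {C M : Submodule (ZMod 3) E} (hCM : IsCompl C M)
    (hM : ∀ v ∈ M, ρ b v ∈ M) (hp : nb ρ b (nb ρ b v₀) ∈ C) : ¬ ∀ v ∈ C, ρ b v = v := by
  intro hC
  have h1 : nb ρ b v₀ ∈ M := nb_mem_of_triv hCM hM hC v₀
  have h2 : nb ρ b (nb ρ b v₀) ∈ M := M.sub_mem (hM _ h1) h1
  have := hCM.disjoint
  rw [Submodule.disjoint_def] at this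
  exact h.top (this _ hp h2)

end Cub

/-- If `R = [R, B]` and `b` is trivial on an `R`-invariant submodule, then so is `R`. -/
theorem triv_of_comm_eq {R : Subgroup S} {b : S} (hR : ⁅R, Subgroup.zpowers b⁆ = R)
    {W : Submodule (ZMod 3) E} (hWR : ∀ r ∈ R, ∀ w ∈ W, ρ r w ∈ W) (hWb : ∀ w ∈ W, ρ b w = w) :
    ∀ r ∈ R, ∀ w ∈ W, ρ r w = w := by
  have hB : Subgroup.zpowers b ≤ ptStab ρ W := by
    rw [Subgroup.zpowers_le]
    exact hWb
  have h1 : ⁅R, Subgroup.zpowers b⁆ ≤ ptStab ρ W := by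
    rw [Subgroup.commutator_le]
    intro r hr β hβ w hw
    rw [commutatorElement_def, rho_mul_apply, rho_mul_apply, rho_mul_apply]
    have h2 : ρ β⁻¹ w = w := (ptStab ρ W).inv_mem (hB hβ) w hw
    have h3 : ρ r⁻¹ w ∈ W := hWR _ (R.inv_mem hr) w hw
    rw [h2, hB hβ _ h3, rho_apply_inv]
  rw [hR] at h1
  exact fun r hr w hw => h1 hr w hw

end Cfsg.Agent.Helper9.HH3
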