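import Cfsg.Agent.Helper9.HH3.IndZ2
import Cfsg.Agent.Helper9.HH3.Four
import Cfsg.Agent.Helper3.ExtraCore
import Cfsg.Agent.Helper1.Coprime

/-!
# From the structure theorem to the shape of the conclusion of S4415
-/

set_option autoImplicit false

namespace Cfsg.Agent.Helper9.HH3

open scoped commutatorElement

variable {S : Type*} [Group S] {b : S} {R : Subgroup S} {c : S}

/-- The extraspecial case. -/
theorem extraspecial_of_good [Finite ↥R] (hcen : CenInv b R c)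
    (hsq : ∀ r ∈ R, r * r = 1 ∨ r * r = c)
    (hcm : ∀ r ∈ R, ∀ s ∈ R, r * s = s * r ∨ r * s = s * r * c) (hcard : Nat.card ↥R = 32) :
    Cfsg.IsExtraspecial 2 ↥R := by
  have : Fact (Nat.Prime 2) := ⟨Nat.prime_two⟩
  have hcZ : (⟨c, hcen.mem⟩ : ↥R) ∈ Subgroup.center ↥R := by
    rw [Subgroup.mem_center_iff]
    intro g
    apply Subtype.ext
    exact (hcen.comm g.1 g.2).symm
  have hmemZ : ∀ z : ↥R, (z.1 = 1 ∨ z.1 = c) → z ∈ Subgroup.center ↥R := by
    intro z hz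
    rcases hz with h | h
    · have : z = 1 := Subtype.ext h
      rw [this]; exact Subgroup.one_mem _
    · have : z = ⟨c, hcen.mem⟩ := Subtype.ext h
      rw [this]; exact hcZ
  have hIn : Cfsg.Agent.Helper3.Extra.InClass 2 ↥R := by
    refine ⟨?_, ?_, ?_⟩
    · rw [Nat.card_eq_two_iff]
      refine ⟨1, ⟨⟨c, hcen.mem⟩, hcZ⟩, ?_, ?_⟩
      · intro h
        have := congrArg (fun z : ↥(Subgroup.center ↥R) => (z : ↥R).1) h
        exact hcen.ne this.symm
      · rw [Set.eq_univ_iff_forall]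
        intro z
        have hz : ∀ r ∈ R, (z : ↥R).1 * r = r * (z : ↥R).1 := by
          intro r hr
          have h1 := Subgroup.mem_center_iff.1 z.2 ⟨r, hr⟩
          exact (congrArg Subtype.val h1).symm
        rcases hcen.uniq _ (z : ↥R).2 hz with h | h
        · left
          apply Subtype.ext
          apply Subtype.ext
          exact h
        · right
          rw [Set.mem_singleton_iff]
          apply Subtype.ext
          apply Subtype.ext
          exact h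
    · intro x y
      apply hmemZ
      show x.1 * y.1 * x.1⁻¹ * y.1⁻¹ = 1 ∨ x.1 * y.1 * x.1⁻¹ * y.1⁻¹ = c
      rcases hcm x.1 x.2 y.1 y.2 with h | h
      · left; rw [h]; group
      · right
        rw [h]
        have e := hcen.comm _ (R.inv_mem x.2)
        calc y.1 * x.1 * c * x.1⁻¹ * y.1⁻¹ = y.1 * x.1 * (c * x.1⁻¹) * y.1⁻¹ := by group
          _ = y.1 * x.1 * (x.1⁻¹ * c) * y.1⁻¹ := by rw [e]
          _ = y.1 * (c * y.1⁻¹) := by group
          _ = y.1 * (y.1⁻¹ * c) := by rw [hcen.comm _ (R.inv_mem y.2)]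
          _ = c := by group
    · intro x
      apply hmemZ
      show (x ^ 2 : ↥R).1 = 1 ∨ (x ^ 2 : ↥R).1 = c
      rw [pow_two]
      exact hsq x.1 x.2
  exact hIn.isExtraspecial (by rw [hcard]; norm_num)

variable {z₁ z₂ z₃ : S}

/-- `c` is not in the four-group. -/
theorem c_not_mem_four (hcen : CenInv b R c) (hf : FourCfg b z₁ z₂ z₃) {Q : Subgroup S}
    (hQmem : ∀ q, q ∈ Q ↔ q = 1 ∨ q = z₁ ∨ q = z₂ ∨ q = z₃) : c ∉ Q := by
  intro h
  rcases (hQmem c).1 h with h1 | h1 | h1 | h1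
  · exact hcen.ne h1
  · have := hcen.fix
    rw [h1, hf.c12] at this
    exact hf.ne12 this.symm
  · have := hcen.fix
    rw [h1, hf.c23] at this
    exact hf.ne23 this.symm
  · have := hcen.fix
    rw [h1, hf.c31] at this
    exact hf.ne13 this

/-- The elementary abelian subgroup `Q × ⟨c⟩` of order `8`. -/
theorem exists_elemAb_eight [Finite S] (hcen : CenInv b R c) (hf : FourCfg b z₁ z₂ z₃)
    {Q : Subgroup S} (hQR : Q ≤ R) (hQ : Cfsg.IsElementaryAbelian 2 Q)
    (hQmem : ∀ q, q ∈ Q ↔ q = 1 ∨ q = z₁ ∨ q = z₂ ∨ q = z₃) (hQ4 : Nat.card ↥Q = 4) :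
    ∃ A : Subgroup S, A ≤ R ∧ Cfsg.IsElementaryAbelian 2 A ∧ Nat.card ↥A = 8 := by
  have hcQ : Subgroup.zpowers c ≤ Subgroup.centralizer (Q : Set S) := by
    rw [Subgroup.zpowers_le, Subgroup.mem_centralizer_iff]
    intro h hh
    exact (hcen.comm h (hQR hh)).symm
  have hnorm : Subgroup.zpowers c ≤ Subgroup.normalizer (Q : Set S) :=
    hcQ.trans (Subgroup.centralizer_le_normalizer _)
  have hform : ∀ x ∈ Q ⊔ Subgroup.zpowers c, ∃ q ∈ Q, ∃ ζ ∈ Subgroup.zpowers c, x = q * ζ :=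
    fun x hx => Cfsg.Agent.Helper1.mem_sup_of_le_normalizer hnorm hx
  have hQcomm : ∀ q ∈ Q, ∀ q' ∈ Q, q * q' = q' * q := by
    intro q hq q' hq'
    have h1 := isMulCommutative_iff.1 hQ.1 ⟨q, hq⟩ ⟨q', hq'⟩
    exact congrArg Subtype.val h1
  refine ⟨Q ⊔ Subgroup.zpowers c, sup_le hQR (by rw [Subgroup.zpowers_le]; exact hcen.mem),
    ⟨?_, ?_⟩, ?_⟩
  · rw [isMulCommutative_iff]
    intro x y
    apply Subtype.ext
    obtain ⟨q, hq, ζ, hζ, hx⟩ := hform x.1 x.2
    obtain ⟨q', hq', ζ', hζ', hy⟩ := hform y.1 y.2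
    show x.1 * y.1 = y.1 * x.1
    rw [hx, hy]
    have e1 : ζ * q' = q' * ζ := hcen.z_comm hζ (hQR hq')
    have e2 : ζ' * q = q * ζ' := hcen.z_comm hζ' (hQR hq)
    have e3 : ζ * ζ' = ζ' * ζ := hcen.z_comm hζ (hcen.z_mem hζ')
    calc q * ζ * (q' * ζ') = q * (ζ * q') * ζ' := by group
      _ = q * (q' * ζ) * ζ' := by rw [e1]
      _ = (q * q') * (ζ * ζ') := by group
      _ = (q' * q) * (ζ' * ζ) := by rw [hQcomm q hq q' hq', e3]
      _ = q' * (q * ζ') * ζ := by group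
      _ = q' * (ζ' * q) * ζ := by rw [e2]
      _ = q' * ζ' * (q * ζ) := by group
  · intro a ha
    obtain ⟨q, hq, ζ, hζ, rfl⟩ := hform a ha
    have e1 : ζ * q = q * ζ := hcen.z_comm hζ (hQR hq)
    have hq2 : q * q = 1 := by
      have := hQ.2 q hq
      rwa [pow_two] at this
    rw [pow_two]
    calc q * ζ * (q * ζ) = q * (ζ * q) * ζ := by group
      _ = q * (q * ζ) * ζ := by rw [e1]
      _ = (q * q) * (ζ * ζ) := by group
      _ = 1 := by rw [hq2, hcen.z_sq hζ, one_mul]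
  · have hdisj : Subgroup.zpowers c ⊓ Q = ⊥ := by
      rw [eq_bot_iff]
      intro g hg
      rw [Subgroup.mem_bot]
      obtain ⟨hg1, hg2⟩ := Subgroup.mem_inf.1 hg
      rcases (mem_zpowers_inv hcen.sq).1 hg1 with h | h
      · exact h
      · rw [h] at hg2
        exact absurd hg2 (c_not_mem_four hcen hf hQmem)
    rw [Cfsg.Agent.Helper1.card_sup_of_le_normalizer hnorm hdisj, hQ4, Nat.card_zpowers]
    have : orderOf c = 2 := by
      apply orderOf_eq_prime
      · rw [pow_two]; exact hcen.sq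
      · exact hcen.ne
    rw [this]

/-- The quaternion case is impossible when `R` contains a four-group. -/
theorem not_card_eight [Finite S] (hcen : CenInv b R c) (hf : FourCfg b z₁ z₂ z₃)
    {Q : Subgroup S} (hQR : Q ≤ R) (hQ : Cfsg.IsElementaryAbelian 2 Q)
    (hQmem : ∀ q, q ∈ Q ↔ q = 1 ∨ q = z₁ ∨ q = z₂ ∨ q = z₃) (hQ4 : Nat.card ↥Q = 4)
    (hcard : Nat.card ↥R = 8) {x y : S} (hx : x ∈ R) (hy : y ∈ R) : x * y = y * x := by
  obtain ⟨A, hAR, hA, hA8⟩ := exists_elemAb_eight hcen hf hQR hQ hQmem hQ4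
  have hAeq : A = R := Subgroup.eq_of_le_of_card_ge hAR (by rw [hcard, hA8])
  have h1 := isMulCommutative_iff.1 hA.1 ⟨x, hAeq ▸ hx⟩ ⟨y, hAeq ▸ hy⟩
  exact congrArg Subtype.val h1

end Cfsg.Agent.Helper9.HH3
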