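import Cfsg.Agent.Helper9.HH3.Four

/-!
# Four-groups and the cubic element: the weight lines
-/

set_option autoImplicit false

namespace Cfsg.Agent.Helper9.HH3

variable {S : Type*} [Group S] {E : Type*} [AddCommGroup E] [Module (ZMod 3) E]
variable {ρ : Representation (ZMod 3) S E}

/-- The weight space `z₁ = 1`, `z₂ = -1` as a submodule. -/
def W1 (ρ : Representation (ZMod 3) S E) (z₁ z₂ : S) : Submodule (ZMod 3) E where
  carrier := {v | IsW1 ρ z₁ z₂ v}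
  add_mem' := by
    rintro a b ⟨ha1, ha2⟩ ⟨hb1, hb2⟩
    exact ⟨by rw [map_add, ha1, hb1], by rw [map_add, ha2, hb2, neg_add]⟩
  zero_mem' := ⟨map_zero _, by rw [map_zero, neg_zero]⟩
  smul_mem' := by
    rintro c v ⟨h1, h2⟩
    exact ⟨by rw [map_smul, h1], by rw [map_smul, h2, smul_neg]⟩

/-- The fixed space `z₁ = z₂ = 1` as a submodule. -/
def W0 (ρ : Representation (ZMod 3) S E) (z₁ z₂ : S) : Submodule (ZMod 3) E where
  carrier := {v | IsW0 ρ z₁ z₂ v}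
  add_mem' := by
    rintro a b ⟨ha1, ha2⟩ ⟨hb1, hb2⟩
    exact ⟨by rw [map_add, ha1, hb1], by rw [map_add, ha2, hb2]⟩
  zero_mem' := ⟨map_zero _, map_zero _⟩
  smul_mem' := by
    rintro c v ⟨h1, h2⟩
    exact ⟨by rw [map_smul, h1], by rw [map_smul, h2]⟩

theorem mem_W1 {z₁ z₂ : S} {v : E} : v ∈ W1 ρ z₁ z₂ ↔ IsW1 ρ z₁ z₂ v := Iff.rfl
theorem mem_W0 {z₁ z₂ : S} {v : E} : v ∈ W0 ρ z₁ z₂ ↔ IsW0 ρ z₁ z₂ v := Iff.rfl

theorem eq_zero_of_eq_neg {x : E} (h : x = -x) : x = 0 := by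
  have h1 : x + x = 0 := by
    nth_rewrite 2 [h]
    exact add_neg_cancel x
  have h2 := add_add_self_eq_zero x
  rw [h1, zero_add] at h2
  exact h2

namespace FourCfg

variable {b z₁ z₂ z₃ : S} (hf : FourCfg b z₁ z₂ z₃)
include hf

theorem W0_shift : W0 ρ z₂ z₃ = W0 ρ z₁ z₂ := by
  ext v
  constructor
  · rintro ⟨h2, h3⟩
    exact ⟨by rw [← hf.rho23, h3, h2], h2⟩
  · rintro ⟨h1, h2⟩
    exact ⟨h2, hf.isW0_z3 ⟨h1, h2⟩⟩

omit hf in
/-- The three weight lines meet trivially. -/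
theorem W1_inf_shift {v : E} (h1 : v ∈ W1 ρ z₁ z₂) (h2 : v ∈ W1 ρ z₂ z₃) : v = 0 := by
  have e1 : ρ z₂ v = -v := h1.2
  have e2 : ρ z₂ v = v := h2.1
  rw [e2] at e1
  exact eq_zero_of_eq_neg e1

omit hf in
theorem nbsq_apply (x : E) : nb ρ b (nb ρ b x) = ρ b (ρ b x) + ρ b x + x := by
  simp only [nb_apply, map_sub]
  have := add_add_self_eq_zero (ρ b x)
  have e : ρ b (ρ b x) - ρ b x - (ρ b x - x) =
      ρ b (ρ b x) + ρ b x + x - (ρ b x + ρ b x + ρ b x) := by abel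
  rw [e, this, sub_zero]

/-- On a weight line, `(b - 1)²` is injective. -/
theorem eq_zero_of_nbsq {x : E} (hx : x ∈ W1 ρ z₁ z₂) (h0 : nb ρ b (nb ρ b x) = 0) : x = 0 := by
  rw [nbsq_apply] at h0
  have hbx : IsW1 ρ z₂ z₃ (ρ b x) := hf.isW1_b hx
  have hbbx : IsW1 ρ z₃ z₁ (ρ b (ρ b x)) := hf.shift.isW1_b hbx
  -- apply `z₁`
  have hz1bx : ρ z₁ (ρ b x) = -ρ b x := by
    rw [← hf.rho23, hbx.2, map_neg, hbx.1]
  have h1 := congrArg (ρ z₁) h0
  rw [map_add, map_add, map_zero, hbbx.2, hx.1, hz1bx] at h1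
  -- h0 : bbx + bx + x = 0 ; h1 : -bbx + -bx + x = 0
  have h2 : x + x = 0 := by
    have := congrArg₂ (· + ·) h0 h1
    simp only [add_zero] at this
    rw [← this]
    abel
  have h3 := add_add_self_eq_zero x
  rw [h2, zero_add] at h3
  exact h3

end FourCfg

end Cfsg.Agent.Helper9.HH3
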