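import Cfsg.Agent.Helper9.HH3.CaseZ1
import Cfsg.Agent.Helper9.HH3.CaseZ2a5
import Cfsg.Agent.Helper1.HH3B

/-!
# The structure theorem for `R = [R, B]`
-/

set_option autoImplicit false

namespace Cfsg.Agent.Helper9.HH3

variable {S : Type*} [Group S] [Finite S] {E : Type*} [AddCommGroup E] [Module (ZMod 3) E]
variable [Finite E] {ρ : Representation (ZMod 3) S E} {b : S} {v₀ : E}

/-- **Structure theorem**: a `b`-invariant `2`-subgroup `R = [R, ⟨b⟩]` is trivial, a four-group,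
a quaternion group or extraspecial of order `32`. -/
theorem good_of_bAct (hc : Cub ρ b v₀) : ∀ n : ℕ, ∀ R : Subgroup S, Nat.card ↥R = n →
    IsPGroup 2 ↥R → BAct b R → Good b R := by
  intro n
  induction n using Nat.strong_induction_on with
  | _ n ih =>
    intro R hn hR2 hB
    by_cases hbot : R = ⊥
    · left; exact hbot
    by_cases hmove : ∃ z ∈ R, (∀ r ∈ R, z * r = r * z) ∧ b * z * b⁻¹ ≠ z
    · obtain ⟨z, hzR, hzc, hzb⟩ := hmove
      right; left
      exact caseZ1 hc hB hR2 hzR hzc hzb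
    · push Not at hmove
      obtain ⟨c, hcen, hneg⟩ := exists_cenInv hc hB hR2 hbot hmove
      obtain ⟨x, hx, hx1, hxc⟩ := Cfsg.Agent.Helper1.HH3.exists_isZ2 hB hcen hR2
      by_cases ha : ∃ x', IsZ2 R c x' ∧ x' ≠ 1 ∧ x' ≠ c ∧
          x' * (b * x' * b⁻¹) = (b * x' * b⁻¹) * x'
      · obtain ⟨x', hx', hx'1, hx'c, hcomm⟩ := ha
        exact caseZ2a hc hB hcen hR2 hneg hx' hx'1 hx'c hcomm
      · push Not at ha
        apply Cfsg.Agent.Helper1.HH3.caseZ2b hB hcen hR2 hx hx1 hxc ha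
        intro R' hlt h2 hB'
        exact ih (Nat.card ↥R') (hn ▸ hlt) R' rfl h2 hB'

end Cfsg.Agent.Helper9.HH3
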