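import Mathlib

/-!
# The structure theorem for `R = [R, B]`: definitions and generalities (pure group theory)
-/

set_option autoImplicit false

namespace Cfsg.Agent.Helper9.HH3

variable {S : Type*} [Group S]

/-- `x ∈ Z₂(R)` relative to the central involution `c`: all commutators `[x, r]` lie in `{1, c}`. -/
def IsZ2 (R : Subgroup S) (c x : S) : Prop :=
  x ∈ R ∧ ∀ r ∈ R, x * r = r * x ∨ x * r = r * x * c

/-- The possible structures of a `b`-invariant `2`-group `R = [R, ⟨b⟩]` in the Hall–Higman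
situation: trivial, a four-group, a quaternion group, or extraspecial of order `32`. -/
def Good (b : S) (R : Subgroup S) : Prop :=
  R = ⊥ ∨ (Nat.card ↥R = 4 ∧ ∀ r ∈ R, r * r = 1) ∨
  ∃ c ∈ R, c ≠ 1 ∧ c * c = 1 ∧ b * c * b⁻¹ = c ∧ (∀ r ∈ R, c * r = r * c) ∧
    (∀ z ∈ R, (∀ r ∈ R, z * r = r * z) → z = 1 ∨ z = c) ∧
    (∀ r ∈ R, r * r = 1 ∨ r * r = c) ∧
    (∀ r ∈ R, ∀ s ∈ R, r * s = s * r ∨ r * s = s * r * c) ∧
    ((Nat.card ↥R = 8 ∧ ∃ x ∈ R, x * (b * x * b⁻¹) ≠ (b * x * b⁻¹) * x) ∨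
     (Nat.card ↥R = 32 ∧ ∃ x ∈ R, x ≠ 1 ∧ x ≠ c ∧ x * (b * x * b⁻¹) = (b * x * b⁻¹) * x))

theorem inv_eq_sq_of_cube {b : S} (hb3 : b ^ 3 = 1) : b⁻¹ = b * b := by
  have : b * b * b = 1 := by rw [← hb3, pow_succ, pow_two]
  exact inv_eq_of_mul_eq_one_right (by rw [← mul_assoc]; exact this)

/-- Elements of `⟨b⟩` when `b³ = 1`. -/
theorem zpowers_cases {b : S} (hb3 : b ^ 3 = 1) {β : S} (hβ : β ∈ Subgroup.zpowers b) :
    β = 1 ∨ β = b ∨ β = b⁻¹ := by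
  obtain ⟨k, rfl⟩ := Subgroup.mem_zpowers_iff.1 hβ
  have h3 : b ^ (3 : ℤ) = 1 := by
    have : b ^ (3 : ℤ) = b ^ (3 : ℕ) := by norm_cast
    rw [this, hb3]
  have hk : b ^ k = b ^ (k % 3) := by
    conv_lhs => rw [← Int.mul_ediv_add_emod k 3]
    rw [zpow_add, zpow_mul, h3, one_zpow, one_mul]
  have h0 : 0 ≤ k % 3 := Int.emod_nonneg k (by norm_num)
  have h1 : k % 3 < 3 := Int.emod_lt_of_pos k (by norm_num)
  rw [hk]
  have : k % 3 = 0 ∨ k % 3 = 1 ∨ k % 3 = 2 := by omega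
  rcases this with h | h | h
  · left; rw [h, zpow_zero]
  · right; left; rw [h, zpow_one]
  · right; right
    rw [h, inv_eq_sq_of_cube hb3]
    have : b ^ (2 : ℤ) = b ^ (2 : ℕ) := by norm_cast
    rw [this, pow_two]

theorem conj_inv_mem {b : S} (hb3 : b ^ 3 = 1) {R : Subgroup S}
    (hbR : ∀ r ∈ R, b * r * b⁻¹ ∈ R) {r : S} (hr : r ∈ R) : b⁻¹ * r * b ∈ R := by
  have h1 := hbR _ (hbR r hr)
  have e : b * (b * r * b⁻¹) * b⁻¹ = b⁻¹ * r * b := by
    have hb : b⁻¹ = b * b := inv_eq_sq_of_cube hb3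
    have hb' : b = b⁻¹ * b⁻¹ := by
      rw [hb]
      have : b * b * b = 1 := by rw [← hb3, pow_succ, pow_two]
      calc b = b * (b * b * b) * (b * b * b) := by rw [this, mul_one, mul_one]
        _ = b * b * (b * b) := by
          have : b * (b * b * b) * (b * b * b) = b * b * (b * b) * (b * b * b) := by group
          rw [this]
          have h3 : b * b * b = 1 := by rw [← hb3, pow_succ, pow_two]
          rw [h3, mul_one]
    calc b * (b * r * b⁻¹) * b⁻¹ = (b * b) * r * (b⁻¹ * b⁻¹) := by group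
      _ = b⁻¹ * r * b := by rw [← hb, ← hb']
  rwa [e] at h1

/-- If `R = [R, ⟨b⟩]` then `R` lies in every subgroup containing all `[r, b]`, `r ∈ R`. -/
theorem le_of_commutator_mem {b : S} (hb3 : b ^ 3 = 1) {R : Subgroup S}
    (hbR : ∀ r ∈ R, b * r * b⁻¹ ∈ R) (hRR : ⁅R, Subgroup.zpowers b⁆ = R) (H : Subgroup S)
    (h : ∀ r ∈ R, r * b * r⁻¹ * b⁻¹ ∈ H) : R ≤ H := by
  rw [← hRR, Subgroup.commutator_le]
  intro r hr β hβ
  rcases zpowers_cases hb3 hβ with rfl | rfl | rfl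
  · rw [commutatorElement_def]
    simp
  · rw [commutatorElement_def]
    exact h r hr
  · rw [commutatorElement_def]
    have h1 := h _ (conj_inv_mem hb3 hbR hr)
    have h2 := H.inv_mem h1
    have e : (b⁻¹ * r * b * b * (b⁻¹ * r * b)⁻¹ * b⁻¹)⁻¹ = r * b⁻¹ * r⁻¹ * b⁻¹⁻¹ := by group
    rwa [e] at h2

end Cfsg.Agent.Helper9.HH3
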